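import Cfsg.Agent.Lib.Small.Orth.Words
import Cfsg.Agent.Lib.Lie.SpEight.Pieces

/-!
Isometries with a given spinor class: even words in reflections, their behaviour under orthogonal sums and
similarities, and the orders of the affine isometries over them.
-/

set_option autoImplicit false
set_option linter.unusedSectionVars false

namespace Cfsg.Agent.Lie.OrthNine

open Module QuadraticMap Cfsg.Agent.Classical Cfsg.Agent.Classical.OCount Cfsg.Agent.Classical.ORefl
  Cfsg.Agent.Classical.OOmega Cfsg.Agent.Small.Orth Cfsg.Agent.Lie.SpEight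

variable {F : Type*} [Field F] {V W : Type*} [AddCommGroup V] [Module F V] [FiniteDimensional F V]
  [AddCommGroup W] [Module F W] [FiniteDimensional F W] {Q : QuadraticForm F V} {Q' : QuadraticForm F W}

/-- `g` is an even word in reflections with value product in the class of `d`. -/
def Spn (Q : QuadraticForm F V) (g : V ≃ₗ[F] V) (d : F) : Prop :=
  ∃ vs : List V, (∀ v ∈ vs, Q v ≠ 0) ∧ Even vs.length ∧ IsSquare (d * (vs.map fun v => Q v).prod) ∧
    (prodRf Q vs).1 = g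

theorem Spn.mem {g : V ≃ₗ[F] V} {d : F} (h : Spn Q g d) : g ∈ Iso Q := by
  obtain ⟨vs, -, -, -, rfl⟩ := h
  exact (prodRf Q vs).2

theorem Spn.one : Spn Q 1 1 := ⟨[], by simp, ⟨0, rfl⟩, by simp, rfl⟩

theorem Spn.mul {g h : V ≃ₗ[F] V} {d e : F} (hg : Spn Q g d) (hh : Spn Q h e) : Spn Q (g * h) (d * e) := by
  obtain ⟨as, a1, a2, a3, rfl⟩ := hg
  obtain ⟨bs, b1, b2, b3, rfl⟩ := hh
  refine ⟨as ++ bs, fun v hv => (List.mem_append.1 hv).elim (a1 v) (b1 v), ?_, ?_, by rw [prodRf_append]; rfl⟩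
  · rw [List.length_append]; exact a2.add b2
  · rw [List.map_append, List.prod_append, mul_mul_mul_comm]; exact a3.mul b3

theorem Spn.pow {g : V ≃ₗ[F] V} {d : F} (hg : Spn Q g d) : ∀ n : ℕ, Spn Q (g ^ n) (d ^ n)
  | 0 => by simpa using Spn.one
  | n + 1 => by simpa [pow_succ] using (hg.pow n).mul hg

theorem Spn.congr {g : V ≃ₗ[F] V} {d e : F} (hg : Spn Q g d) (hd : d ≠ 0) (h : IsSquare (e * d)) : Spn Q g e := by
  obtain ⟨vs, a1, a2, a3, a4⟩ := hg
  exact ⟨vs, a1, a2, isSquare_trans hd h a3, a4⟩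

theorem Spn.to_one {g : V ≃ₗ[F] V} {d : F} (hg : Spn Q g d) (hd : d ≠ 0) (h : IsSquare d) : Spn Q g 1 :=
  hg.congr hd (by rwa [one_mul])

theorem spn_iff [Finite F] (hQ : PND Q) (h2 : (2 : F) ≠ 0) {g : V ≃ₗ[F] V} :
    Spn Q g 1 ↔ ∃ h : g ∈ Iso Q, (⟨g, h⟩ : ↥(Iso Q)) ∈ commutator ↥(Iso Q) := by
  constructor
  · rintro ⟨vs, h1, he, hs, rfl⟩
    exact ⟨(prodRf Q vs).2, (mem_commutator_iff hQ vs h1).2 ⟨he, by simpa using hs⟩⟩
  · rintro ⟨h, hm⟩
    obtain ⟨vs, h1, e⟩ := exists_list hQ (two_ne h2) ⟨g, h⟩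
    obtain ⟨he, hs⟩ := (mem_commutator_iff hQ vs h1).1 (e ▸ hm)
    exact ⟨vs, h1, he, by simpa using hs, congrArg Subtype.val e⟩

/-- The class of the word is determined. -/
theorem Spn.unique [Finite F] (hQ : PND Q) {g : V ≃ₗ[F] V} {d e : F} (hg : Spn Q g d) (hg' : Spn Q g e) :
    IsSquare (d * e) := by
  obtain ⟨as, a1, a2, a3, a4⟩ := hg
  obtain ⟨bs, b1, b2, b3, b4⟩ := hg'
  have e1 : prodRf Q (as ++ bs.reverse) = 1 := by
    rw [prodRf_append, prodRf_reverse, show prodRf Q as = prodRf Q bs from Subtype.ext (a4.trans b4.symm),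
      mul_inv_cancel]
  obtain ⟨-, hs⟩ := (mem_commutator_iff hQ (as ++ bs.reverse)
    (fun v hv => (List.mem_append.1 hv).elim (a1 v) fun h => b1 v (List.mem_reverse.1 h))).1
    (e1 ▸ one_mem _)
  rw [List.map_append, List.prod_append, List.map_reverse, List.prod_reverse] at hs
  refine isSquare_trans (values_ne a1) a3 (isSquare_trans (values_ne b1) hs ?_)
  rwa [mul_comm]

/-- Odd order gives square class. -/
theorem spn_one_of_odd [Finite F] (hQ : PND Q) (h2 : (2 : F) ≠ 0) {g : V ≃ₗ[F] V} (hg : g ∈ Iso Q) {n : ℕ}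
    (hn : Odd n) (h : g ^ n = 1) : Spn Q g 1 := by
  obtain ⟨vs, h1, e⟩ := exists_list hQ (two_ne h2) ⟨g, hg⟩
  have hsq : Spn Q (g ^ 2) 1 := by
    refine ⟨vs ++ vs, fun v hv => (List.mem_append.1 hv).elim (h1 v) (h1 v), ⟨vs.length, List.length_append⟩, ?_, ?_⟩
    · rw [one_mul, List.map_append, List.prod_append]; exact IsSquare.mul_self _
    · rw [prodRf_append, e, _root_.sq]; rfl
  obtain ⟨k, hk⟩ := hn
  have : g = (g ^ 2) ^ (k + 1) := by
    rw [← pow_mul, show 2 * (k + 1) = n + 1 by omega, pow_succ, h, one_mul]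
  rw [this]
  simpa using hsq.pow (k + 1)

/-! ### Similarities -/

theorem conjL_refl (L : V ≃ₗ[F] W) {c : F} (hc : c ≠ 0) (hL : ∀ x, Q' (L x) = c * Q x) (v : V) :
    conjL L (refl Q v) = refl Q' (L v) := by
  refine LinearEquiv.ext fun x => ?_
  obtain ⟨y, rfl⟩ := L.surjective x
  have hp : polar Q' (L v) (L y) = c * polar Q v y := by simp only [polar, ← map_add, hL]; ring
  rw [conjL_apply, L.symm_apply_apply, refl_apply, refl_apply, map_sub, map_smul, hL, hp, mul_inv]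
  congr 2
  field_simp

theorem Spn.sim {g : V ≃ₗ[F] V} {d : F} (hg : Spn Q g d) (L : V ≃ₗ[F] W) {c : F} (hc : c ≠ 0)
    (hL : ∀ x, Q' (L x) = c * Q x) : Spn Q' (conjL L g) d := by
  obtain ⟨vs, h1, he, hs, rfl⟩ := hg
  refine ⟨vs.map L, ?_, by rwa [List.length_map], ?_, ?_⟩
  · simp only [List.mem_map]
    rintro _ ⟨v, hv, rfl⟩
    rw [hL]; exact mul_ne_zero hc (h1 v hv)
  · have : ((vs.map L).map fun v => Q' v).prod = c ^ vs.length * (vs.map fun v => Q v).prod := by
      clear h1 he hs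
      induction vs with
      | nil => simp
      | cons v vs ih => simp only [List.map_cons, List.prod_cons, List.length_cons, ih, hL]; ring
    rw [this, mul_left_comm]
    exact (he.isSquare_pow c).mul hs
  · clear h1 he hs
    induction vs with
    | nil => rw [List.map_nil, prodRf_nil, prodRf_nil]; exact (map_one _).symm
    | cons v vs ih =>
      rw [List.map_cons, prodRf_cons, prodRf_cons]
      change refl Q' (L v) * (prodRf Q' (vs.map L)).1 = conjL L (refl Q v * (prodRf Q vs).1)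
      rw [map_mul, ih, conjL_refl L hc hL]

theorem prod_pnd (hQ : PND Q) (hQ' : PND Q') : PND (Q.prod Q') := fun x hx => by
  refine Prod.ext (hQ _ fun w => ?_) (hQ' _ fun w => ?_)
  · simpa [polar] using hx (w, 0)
  · simpa [polar] using hx (0, w)

theorem pnd_sim (L : V ≃ₗ[F] W) {c : F} (hc : c ≠ 0) (hL : ∀ x, Q' (L x) = c * Q x) (hQ : PND Q) : PND Q' :=
  fun x hx => by
    obtain ⟨y, rfl⟩ := L.surjective x
    rw [hQ y fun w => ?_, map_zero]
    have := hx (L w)
    simp only [polar, ← map_add, hL] at this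
    refine (mul_eq_zero.1 (show c * polar Q y w = 0 from ?_)).resolve_left hc
    rw [polar]
    linear_combination this

/-! ### Sums -/

theorem pair_refl_inl (v : V) : refl (Q.prod Q') (v, 0) = pairHom (refl Q v, 1) := by
  refine LinearEquiv.ext fun ⟨x, y⟩ => ?_
  rw [refl_apply, pairHom_apply]
  refine Prod.ext ?_ ?_ <;> simp [refl_apply, polar] <;> congr 2 <;> ring

theorem pair_refl_inr (w : W) : refl (Q.prod Q') (0, w) = pairHom (1, refl Q' w) := by
  refine LinearEquiv.ext fun ⟨x, y⟩ => ?_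
  rw [refl_apply, pairHom_apply]
  refine Prod.ext ?_ ?_ <;> simp [refl_apply, polar] <;> congr 2 <;> ring

theorem prodRf_pair_inl (vs : List V) :
    (prodRf (Q.prod Q') (vs.map fun v => (v, 0))).1 = pairHom ((prodRf Q vs).1, 1) := by
  induction vs with
  | nil => rw [List.map_nil, prodRf_nil, prodRf_nil]; exact (map_one _).symm
  | cons v vs ih =>
    rw [List.map_cons, prodRf_cons, prodRf_cons]
    change refl (Q.prod Q') (v, 0) * (prodRf (Q.prod Q') (vs.map fun v => (v, 0))).1 =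
      pairHom (refl Q v * (prodRf Q vs).1, 1)
    rw [ih, pair_refl_inl, ← map_mul]
    simp

theorem prodRf_pair_inr (ws : List W) :
    (prodRf (Q.prod Q') (ws.map fun w => (0, w))).1 = pairHom (1, (prodRf Q' ws).1) := by
  induction ws with
  | nil => rw [List.map_nil, prodRf_nil, prodRf_nil]; exact (map_one _).symm
  | cons v vs ih =>
    rw [List.map_cons, prodRf_cons, prodRf_cons]
    change refl (Q.prod Q') (0, v) * (prodRf (Q.prod Q') (vs.map fun v => (0, v))).1 =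
      pairHom (1, refl Q' v * (prodRf Q' vs).1)
    rw [ih, pair_refl_inr, ← map_mul]
    simp

theorem values_inl (vs : List V) :
    ((vs.map fun v => ((v, 0) : V × W)).map fun x => (Q.prod Q') x) = vs.map fun v => Q v := by
  simp [List.map_map, Function.comp_def]

theorem values_inr (ws : List W) :
    ((ws.map fun w => ((0, w) : V × W)).map fun x => (Q.prod Q') x) = ws.map fun w => Q' w := by
  simp [List.map_map, Function.comp_def]

theorem Spn.pair {g : V ≃ₗ[F] V} {h : W ≃ₗ[F] W} {d e : F} (hg : Spn Q g d) (hh : Spn Q' h e) :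
    Spn (Q.prod Q') (pairHom (g, h)) (d * e) := by
  obtain ⟨as, a1, a2, a3, rfl⟩ := hg
  obtain ⟨bs, b1, b2, b3, rfl⟩ := hh
  have ha : Spn (Q.prod Q') (pairHom ((prodRf Q as).1, 1)) d :=
    ⟨as.map fun v => (v, 0), by simpa using a1, by rwa [List.length_map], by rwa [values_inl], prodRf_pair_inl as⟩
  have hb : Spn (Q.prod Q') (pairHom (1, (prodRf Q' bs).1)) e :=
    ⟨bs.map fun v => (0, v), by simpa using b1, by rwa [List.length_map], by rwa [values_inr], prodRf_pair_inr bs⟩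
  have := ha.mul hb
  rwa [← map_mul, Prod.mk_mul_mk, mul_one, one_mul] at this

/-- An element of a summand. -/
theorem Spn.of_pair [Finite F] (hQ : PND Q) (hQ' : PND Q') (h2 : (2 : F) ≠ 0) {g : V ≃ₗ[F] V} (hg : g ∈ Iso Q)
    (h : Spn (Q.prod Q') (pairHom (g, 1)) 1) : Spn Q g 1 := by
  obtain ⟨hm, hc⟩ := (spn_iff (prod_pnd hQ hQ') h2).1 h
  obtain ⟨vs, h1, e⟩ := exists_list hQ (two_ne h2) ⟨g, hg⟩
  have e' : prodRf (Q.prod Q') (vs.map fun v => (v, 0)) = ⟨_, hm⟩ := Subtype.ext (by rw [prodRf_pair_inl, e])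
  obtain ⟨he, hs⟩ := (mem_commutator_iff (prod_pnd hQ hQ') (vs.map fun v => (v, 0)) (by simpa using h1)).1 (e' ▸ hc)
  rw [values_inl] at hs
  exact ⟨vs, h1, by rwa [List.length_map] at he, by rwa [one_mul], congrArg Subtype.val e⟩

/-- An element of class `d` carries an affine isometry of order divisible by `r`. -/
def HasCls (Q : QuadraticForm F V) (d : F) (r : ℕ) : Prop :=
  ∃ g v, Spn Q g d ∧ r ∣ orderOf (aff g v)

theorem HasCls.dvd {d : F} {r r' : ℕ} (h : HasCls Q d r) (hr : r' ∣ r) : HasCls Q d r' := by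
  obtain ⟨g, v, hg, ho⟩ := h
  exact ⟨g, v, hg, hr.trans ho⟩

theorem HasCls.congr {d e : F} {r : ℕ} (h : HasCls Q d r) (hd : d ≠ 0) (he : IsSquare (e * d)) : HasCls Q e r := by
  obtain ⟨g, v, hg, ho⟩ := h
  exact ⟨g, v, hg.congr hd he, ho⟩

theorem HasCls.sum {d e : F} {r r' : ℕ} (h : HasCls Q d r) (h' : HasCls Q' e r') :
    HasCls (Q.prod Q') (d * e) (Nat.lcm r r') := by
  obtain ⟨g, v, hg, hr⟩ := h
  obtain ⟨g', v', hg', hr'⟩ := h'
  refine ⟨pairHom (g, g'), (v, v'), hg.pair hg', ?_⟩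
  rw [orderOf_aff_pair]
  exact Nat.lcm_dvd (hr.trans (Nat.dvd_lcm_left _ _)) (hr'.trans (Nat.dvd_lcm_right _ _))

theorem HasCls.sim {d : F} {r : ℕ} (h : HasCls Q d r) (s : Sim ⇑Q ⇑Q') : HasCls Q' d r := by
  obtain ⟨g, v, hg, hr⟩ := h
  obtain ⟨L, hL⟩ := s
  exact ⟨conjL L g, L v, hg.sim L one_ne_zero (fun x => by rw [hL, one_mul]), by rwa [orderOf_aff_conj]⟩

theorem hasCls_order {g : V ≃ₗ[F] V} {d : F} (h : Spn Q g d) : HasCls Q d (orderOf g) :=
  ⟨g, 0, h, orderOf_dvd_aff g 0⟩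

theorem coe_prod : ⇑(Q.prod Q') = sumQ ⇑Q ⇑Q' := funext fun _ => rfl

end Cfsg.Agent.Lie.OrthNine
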