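import Cfsg.Agent.Lib.Lie.OrthNine.Models

/-!
The largest orders in the affine extension of the elliptic space of dimension eight, each realised by an element.
-/

set_option autoImplicit false
set_option linter.unusedSectionVars false

namespace Cfsg.Agent.Lie.OrthNine

open Module QuadraticMap Cfsg.Agent.Classical Cfsg.Agent.Classical.OCount Cfsg.Agent.Lie.SpEight

/-- The candidates for the largest orders. -/
def Good (q p n : ℕ) : Prop :=
  n ∣ Nat.lcm (q ^ 2 - 1) (q ^ 2 + 1) ∨ n ∣ Nat.lcm (q ^ 3 - 1) (q + 1) ∨ n ∣ Nat.lcm (q ^ 3 + 1) (q - 1) ∨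
    n ∣ Nat.lcm (Nat.lcm (q ^ 2 + 1) (q - 1)) p ∨ n ∣ Nat.lcm (Nat.lcm (q ^ 2 + 1) (q + 1)) p ∨
    n ∣ Nat.lcm (q ^ 2 - 1) p ∨ (p = 3 ∧ (n ∣ Nat.lcm (q - 1) 9 ∨ n ∣ Nat.lcm (q + 1) 9)) ∨
    (p = 5 ∧ n ∣ Nat.lcm 2 25)

variable {F : Type*} [Field F] [Fintype F] {a b : F}

/-- Every candidate is realised. -/
theorem good_hasCls (h2 : (2 : F) ≠ 0)
    (hab : ∀ z₁ z₂ : F, z₁ ^ 2 + a * z₁ * z₂ + b * z₂ ^ 2 = 0 → z₁ = 0 ∧ z₂ = 0) {p : ℕ} [Fact p.Prime] [CharP F p]
    {n : ℕ} (hn : Good (Fintype.card F) p n) : HasCls (ellQ 3 a b) 1 n := by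
  classical
  set q := Fintype.card F
  have plus : ∀ k, 1 ≤ k → ∃ d, ¬ IsSquare d ∧ HasCls (hypQ F k) d (q ^ k - 1) := fun k hk => by
    obtain ⟨g, d, hd, hg, ho⟩ := torus_plus (F := F) h2 hk
    exact ⟨d, hd, ho ▸ hasCls_order hg⟩
  have minus : ∀ k, 1 ≤ k → ∃ d, ¬ IsSquare d ∧ HasCls (ellQ (k - 1) a b) d (q ^ k + 1) := fun k hk => by
    obtain ⟨g, d, hd, hg, ho⟩ := torus_minus h2 hab hk
    exact ⟨d, hd, ho ▸ hasCls_order hg⟩
  obtain ⟨d1, hd1, p1⟩ := plus 1 le_rfl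
  obtain ⟨d2, hd2, p2⟩ := plus 2 (by norm_num)
  obtain ⟨d3, hd3, p3⟩ := plus 3 (by norm_num)
  obtain ⟨e1, he1, m1⟩ := minus 1 le_rfl
  obtain ⟨e2, he2, m2⟩ := minus 2 (by norm_num)
  obtain ⟨e3, he3, m3⟩ := minus 3 (by norm_num)
  simp only [pow_one, Nat.sub_self, Nat.reduceSub] at p1 m1 m2 m3
  have ne0 : ∀ {d : F}, ¬ IsSquare d → d ≠ 0 := fun {d} hd => by
    rintro rfl; exact hd IsSquare.zero
  have hh : ∀ i j : ℕ, Sim ⇑((hypQ F i).prod (hypQ F j)) ⇑(hypQ F (i + j)) := fun i j => by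
    rw [coe_prod, coe_hypQ, coe_hypQ, coe_hypQ]; exact sim_hyp_add i j
  have he : ∀ i j : ℕ, Sim ⇑((hypQ F i).prod (ellQ j a b)) ⇑(ellQ (i + j) a b) := fun i j => by
    rw [coe_prod, coe_hypQ, coe_ellQ, coe_ellQ]; exact sim_hyp_ell i j a b
  have eh : ∀ i j : ℕ, Sim ⇑((ellQ i a b).prod (hypQ F j)) ⇑(ellQ (j + i) a b) := fun i j => by
    rw [coe_prod, coe_hypQ, coe_ellQ, coe_ellQ]; exact sim_ell_hyp i j a b
  have ee : Sim ⇑((ellQ 0 a b).prod (ellQ 0 a b)) ⇑(hypQ F 2) := by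
    rw [coe_prod, coe_hypQ, coe_ellQ]
    exact ((sim_ell_zero a b).symm.congr (sim_ell_zero a b).symm).trans (sim_planes h2 hab)
  -- combining two non-square classes
  have two : ∀ {V : Type _} [AddCommGroup V] [Module F V] [FiniteDimensional F V] {Q : QuadraticForm F V}
      {d e : F} {r : ℕ}, HasCls Q (d * e) r → ¬ IsSquare d → ¬ IsSquare e → HasCls Q 1 r :=
    fun h hd he => h.congr (mul_ne_zero (ne0 hd) (ne0 he)) (by rw [one_mul]; exact isSquare_mul_of_not h2 hd he)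
  haveI : Nontrivial ((Fin 1 → F) × (Fin 1 → F)) := inferInstance
  have th : HasCls (hypQ F 1) 1 p := hasCls_translation _ p
  have te : HasCls (ellQ 0 a b) 1 p := hasCls_translation _ p
  obtain ⟨dh, de, hdh, hde, hdd, nh, ne⟩ := neg_planes h2 hab
  have hp1 : p ^ 1 = p := pow_one p
  rcases hn with h | h | h | h | h | h | ⟨hp, h⟩ | ⟨hp, h⟩
  · exact ((two (p2.sum m2) hd2 he2).sim (he 2 1)).dvd h
  · exact ((two (p3.sum m1) hd3 he1).sim (he 3 0)).dvd h
  · exact ((two (m3.sum p1) he3 hd1).sim (eh 2 1)).dvd h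
  · have h1 := ((p1.sum th).sim (hh 1 1))
    rw [mul_one] at h1
    refine ((two (m2.sum h1) he2 hd1).sim (eh 1 2)).dvd (h.trans (Nat.lcm_assoc _ _ _ ▸ dvd_rfl))
  · have h1 := ((m1.sum te).sim ee)
    rw [mul_one] at h1
    refine ((two (m2.sum h1) he2 he1).sim (eh 1 2)).dvd (h.trans (Nat.lcm_assoc _ _ _ ▸ dvd_rfl))
  · have key : ∀ c : F, ¬ IsSquare c → HasCls (ellQ 1 a b) c (Nat.lcm 2 p) → HasCls (ellQ 3 a b) 1 n :=
      fun c hc hW => ((two (p2.sum hW) hd2 hc).sim (he 2 1)).dvd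
        (h.trans (Nat.lcm_dvd (Nat.dvd_lcm_left _ _) ((Nat.dvd_lcm_right 2 p).trans (Nat.dvd_lcm_right _ _))))
    by_cases hs : IsSquare dh
    · have hde' : ¬ IsSquare de := fun hh' => hdd (hs.mul hh')
      have h1 := (ne.sum th).sim (eh 0 1)
      rw [mul_one] at h1
      exact key de hde' h1
    · have h1 := (nh.sum te).sim (he 1 0)
      rw [mul_one] at h1
      exact key dh hs h1
  · subst hp
    have h9 : HasCls (ellQ 1 a b) 1 9 := by
      have := hasCls_unipotent (pnd_ellQ h2 1 hab) h2 (p := 3) (k := 1) (by norm_num)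
        (by rw [finrank_ell]; norm_num)
      simpa using this
    rcases h with h | h
    · have h1 := (two (p1.sum p1) hd1 hd1).sim (hh 1 1)
      have h3 := (h1.sum h9).sim (he 2 1)
      rw [one_mul] at h3
      exact h3.dvd (h.trans (by rw [Nat.lcm_self]))
    · have h1 := (two (m1.sum m1) he1 he1).sim ee
      have h3 := (h1.sum h9).sim (he 2 1)
      rw [one_mul] at h3
      exact h3.dvd (h.trans (by rw [Nat.lcm_self]))
  · subst hp
    by_cases hs : IsSquare dh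
    · have h25 : HasCls (ellQ 2 a b) 1 25 := by
        have := hasCls_unipotent (pnd_ellQ h2 2 hab) h2 (p := 5) (k := 2) (by norm_num)
          (by rw [finrank_ell]; norm_num)
        simpa using this
      have h3 := ((nh.congr hdh (e := 1) (by rwa [one_mul])).sum h25).sim (he 1 2)
      rw [one_mul] at h3
      exact h3.dvd h
    · have hde' : IsSquare de := by
        by_contra hh'
        exact hdd (isSquare_mul_of_not h2 hs hh')
      have h25 : HasCls (hypQ F 3) 1 25 := by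
        have := hasCls_unipotent (pnd_hypQ (F := F) 3) h2 (p := 5) (k := 2) (by norm_num)
          (by rw [finrank_hyp]; norm_num)
        simpa using this
      have h3 := ((ne.congr hde (e := 1) (by rwa [one_mul])).sum h25).sim (eh 0 3)
      rw [one_mul] at h3
      exact h3.dvd h

end Cfsg.Agent.Lie.OrthNine
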