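import Cfsg.Agent.Lib.Lie.OrthNine.Cases
import Cfsg.Agent.Lib.Lie.OrthNine.Witness
import Cfsg.Agent.Lib.Lie.SpEight.Cover

/-!
The order of a fixed-point-free element of the derived group of the hyperbolic space of dimension eight divides
one of the numbers realised in the affine extension of the elliptic space.
-/

set_option autoImplicit false
set_option linter.unusedSectionVars false

namespace Cfsg.Agent.Lie.OrthNine

open Module QuadraticMap Polynomial UniqueFactorizationMonoid Cfsg.Agent.Classical Cfsg.Agent.Classical.OCount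
  Cfsg.Agent.Classical.ORefl Cfsg.Agent.Classical.OOmega

variable {F : Type*} [Field F]

/-- The kind and half-width of a factor. -/
noncomputable def keyOf (f : F[X]) : ℕ × ℕ :=
  @ite _ (f ∣ f.reverse) (Classical.propDecidable _) (0, f.natDegree / 2) (1, f.natDegree)

/-- The number attached to a kind and a width. -/
def numOf (q : ℕ) (k : ℕ × ℕ) : ℕ := if k.1 = 0 then q ^ k.2 + 1 else q ^ k.2 - 1

theorem coprime_of_dvd {q p L : ℕ} [Fact p.Prime] (hpq : p ∣ q) (hq : 1 ≤ q) (hL : L ∣ q ^ 4 - 1) :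
    L.Coprime p := by
  refine Nat.Coprime.coprime_dvd_left hL ((Nat.Prime.coprime_iff_not_dvd (Fact.out : p.Prime)).2 fun h => ?_).symm
  have h1 : 1 ≤ q ^ 4 := Nat.one_le_pow _ _ hq
  have h2 := Nat.dvd_sub (dvd_pow hpq (by norm_num : 4 ≠ 0)) h
  rw [show q ^ 4 - (q ^ 4 - 1) = 1 by omega] at h2
  exact (Fact.out : p.Prime).not_dvd_one h2

theorem four_factor {q : ℕ} : q ^ 4 - 1 = (q ^ 2 + 1) * (q ^ 2 - 1) ∧ q ^ 2 - 1 = (q + 1) * (q - 1) := by
  constructor
  · rw [← Nat.sq_sub_sq, ← pow_mul, one_pow]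
  · rw [← Nat.sq_sub_sq, one_pow]

variable [Fintype F] {V : Type*} [AddCommGroup V] [Module F V] [FiniteDimensional F V] {Q : QuadraticForm F V}

theorem good_of_fpf (hQ : PND Q) (h2 : (2 : F) ≠ 0) {p : ℕ} [Fact p.Prime] [CharP F p] (hdim : finrank F V = 8)
    (hcount : Nat.card {x // Q x = 1} = (Fintype.card F ^ 4 - 1) * Fintype.card F ^ 3) {g : V ≃ₗ[F] V}
    (hg : Spn Q g 1) (hfix : ∀ x, g x = x → x = 0) : Good (Fintype.card F) p (orderOf g) := by
  classical
  set q := Fintype.card F with hq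
  set G : Module.End F V := (g : Module.End F V) with hG
  have hp := (Fact.out : p.Prime)
  have hq2 : 2 ≤ q := Fintype.one_lt_card
  have hp3 : 3 ≤ p := by
    rcases Nat.lt_or_ge p 3 with h | h
    · exfalso
      obtain rfl : p = 2 := le_antisymm (by omega) hp.two_le
      exact h2 (by exact_mod_cast CharP.cast_eq_zero F 2)
    · exact h
  have hpq : p ∣ q := by
    obtain ⟨n, -, hn⟩ := FiniteField.card F p
    rw [hq, hn]; exact dvd_pow_self p n.ne_zero
  obtain ⟨t, htq⟩ := odd_card h2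
  obtain ⟨hc0, cc, hcc, hrev⟩ := OrderBound.minpoly_data Q.polarBilin (fun w hw => hQ w fun u => by
    rw [polar_comm]; exact hw u) G (fun u v => polar_iso hg.mem u v)
  have hint : IsIntegral F G := IsIntegral.of_finite F G
  set μ := minpoly F G with hμdef
  have hμm : μ.Monic := minpoly.monic hint
  have hμ0 : μ ≠ 0 := hμm.ne_zero
  have hdeg : μ.natDegree ≤ 8 := by
    rw [← hdim, ← LinearMap.charpoly_natDegree G]
    exact natDegree_le_of_dvd (LinearMap.minpoly_dvd_charpoly G) G.charpoly_monic.ne_zero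
  set S := (normalizedFactors μ).toFinset with hS
  set e : F[X] → ℕ := fun f => (normalizedFactors μ).count f with he
  have hSdvd : ∀ f ∈ S, f ∣ μ := fun f hf => dvd_of_mem_normalizedFactors (Multiset.mem_toFinset.mp hf)
  have hSi : ∀ f ∈ S, Irreducible f := fun f hf => irreducible_of_normalized_factor f (Multiset.mem_toFinset.mp hf)
  have hSm : ∀ f ∈ S, f.Monic := fun f hf => by
    rw [← normalize_normalized_factor f (Multiset.mem_toFinset.mp hf)]
    exact Polynomial.monic_normalize (hSi f hf).ne_zero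
  have hSX : ∀ f ∈ S, ¬ f = X := fun f hf h => hc0 (X_dvd_iff.mp (h ▸ hSdvd f hf))
  have hSone : ∀ f ∈ S, ¬ f = X - 1 := fun f hf h => by
    obtain ⟨r, hr⟩ := h ▸ hSdvd f hf
    have hr0 : r ≠ 0 := fun h0 => hμ0 (by rw [hr, h0, mul_zero])
    have hne : aeval G r ≠ 0 := fun h0 => by
      have := natDegree_le_of_dvd (minpoly.dvd F G h0) hr0
      rw [← hμdef, hr, ← C_1, natDegree_mul (X_sub_C_ne_zero _) hr0, natDegree_X_sub_C] at this
      omega
    refine hne (LinearMap.ext fun x => hfix _ ?_)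
    have h1 := congrArg (fun P => aeval G P x) hr
    simp only [hμdef, minpoly.aeval, LinearMap.zero_apply, map_mul, map_sub, aeval_X, map_one, Module.End.mul_apply,
      LinearMap.sub_apply, Module.End.one_apply] at h1
    exact (sub_eq_zero.1 h1.symm)
  have hμprod : μ = ∏ f ∈ S, f ^ e f := by
    have h1 : Associated (normalizedFactors μ).prod μ := prod_normalizedFactors hμ0
    rw [Finset.prod_multiset_count] at h1
    exact (eq_of_monic_of_associated (monic_prod_of_monic _ _ fun f hf => (hSm f hf).pow _) hμm h1).symm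
  have he1 : ∀ f ∈ S, 1 ≤ e f := fun f hf => Multiset.one_le_count_iff_mem.mpr (Multiset.mem_toFinset.mp hf)
  have hpartner : ∀ f ∈ S, ∀ f' : F[X], f'.Monic → Irreducible f' → (∃ a : F, a ≠ 0 ∧ f.reverse = Polynomial.C a * f') →
      f' ∈ S ∧ e f ≤ e f' := by
    rintro f hf f' hm' hi' ⟨a, ha, hff⟩
    have h1 : f ^ e f ∣ μ := by rw [hμprod]; exact Finset.dvd_prod_of_mem _ hf
    have h2' : f' ^ e f ∣ μ := by
      obtain ⟨r, hr⟩ := h1
      have h3 : f.reverse ^ e f ∣ μ.reverse :=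
        ⟨r.reverse, by rw [hr, Polynomial.reverse_mul_of_domain, OrderBound.reverse_pow]⟩
      rw [hrev, hff, mul_pow] at h3
      exact (IsUnit.dvd_mul_left (isUnit_C.mpr hcc.isUnit)).mp (dvd_of_mul_left_dvd h3)
    have h4 := (dvd_iff_normalizedFactors_le_normalizedFactors (pow_ne_zero _ hi'.ne_zero) hμ0).mp h2'
    rw [normalizedFactors_pow, normalizedFactors_irreducible hi', hm'.normalize_eq_self,
      Multiset.nsmul_singleton] at h4
    have h5 := Multiset.count_le_of_le f' h4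
    rw [Multiset.count_replicate_self] at h5
    exact ⟨Multiset.mem_toFinset.mpr (Multiset.one_le_count_iff_mem.mp ((he1 f hf).trans h5)), h5⟩
  set e₀ := e (X + 1) with he₀
  set R := S.erase (X + 1) with hR
  have hRS : ∀ f ∈ R, f ∈ S ∧ ¬ (f = X - 1 ∨ f = X + 1) := fun f hf => by
    obtain ⟨hne, hfS⟩ := Finset.mem_erase.1 hf
    exact ⟨hfS, fun h => h.elim (hSone f hfS) hne⟩
  have hX1 : (X + 1 : F[X]) = X - Polynomial.C (-1) := by simp
  have hXd : (X + 1 : F[X]).natDegree = 1 := by rw [hX1, natDegree_X_sub_C]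
  have hXm : (X + 1 : F[X]).Monic := by rw [hX1]; exact monic_X_sub_C _
  have hsplit : μ = (X + 1) ^ e₀ * ∏ f ∈ R, f ^ e f := by
    by_cases h : (X + 1 : F[X]) ∈ S
    · rw [hR, he₀, Finset.mul_prod_erase _ (fun f => f ^ e f) h, hμprod]
    · have h0 : e₀ = 0 := Multiset.count_eq_zero.2 fun h' => h (Multiset.mem_toFinset.2 h')
      rw [hR, Finset.erase_eq_of_notMem h, h0, pow_zero, one_mul, hμprod]
  have hμdeg : μ.natDegree = e₀ + ∑ f ∈ R, e f * f.natDegree := by
    conv_lhs => rw [hsplit]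
    rw [Monic.natDegree_mul (hXm.pow _) (monic_prod_of_monic _ _ fun f hf => (hSm f (hRS f hf).1).pow _),
      hXm.natDegree_pow, hXd, mul_one,
      natDegree_prod_of_monic _ _ fun f hf => (hSm f (hRS f hf).1).pow _]
    congr 1
    exact Finset.sum_congr rfl fun f hf => (hSm f (hRS f hf).1).natDegree_pow _
  have hfacts := fun f (hf : f ∈ R) =>
    OrderBound.factor_facts (hSm f (hRS f hf).1) (hSi f (hRS f hf).1) (hSX f (hRS f hf).1) (hRS f hf).2
  -- kind, width, weight and period of a factor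
  have hclass : ∀ f ∈ R, ∃ k d, keyOf f = (k, d) ∧ 1 ≤ d ∧
      f ∣ X ^ numOf q (k, d) - 1 ∧ 2 * d * e f ≤ ∑ g ∈ R.filter (fun g => keyOf g = keyOf f), e g * g.natDegree ∧
      ((k = 0 ∧ f.natDegree = 2 * d) ∨ (k = 1 ∧ f.natDegree = d ∧ ∃ f' ∈ R, f' ≠ f ∧ keyOf f' = keyOf f ∧
        f'.natDegree = d ∧ e f ≤ e f' ∧ (∃ c : F, c ≠ 0 ∧ f.reverse = Polynomial.C c * f') ∧
          ∃ c : F, c ≠ 0 ∧ f'.reverse = Polynomial.C c * f)) := by
    intro f hf
    have hfmem : f ∈ R.filter (fun g => keyOf g = keyOf f) := Finset.mem_filter.2 ⟨hf, rfl⟩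
    rcases (hfacts f hf).2 with ⟨hs, d, hd0, hd, hdv⟩ | ⟨hs, f', hm', hi', hne, hd', hu', hs', c, hc, hcf⟩
    · refine ⟨0, d, by rw [keyOf, if_pos hs, hd]; simp, hd0, by simpa [numOf] using hdv, ?_, Or.inl ⟨rfl, hd⟩⟩
      refine le_trans (le_of_eq ?_) (Finset.single_le_sum (f := fun g : F[X] => e g * g.natDegree)
        (fun _ _ => Nat.zero_le _) hfmem)
      rw [hd]; ring
    · obtain ⟨hmem, hle⟩ := hpartner f (hRS f hf).1 f' hm' hi' ⟨c, hc, hcf⟩
      have hf'R : f' ∈ R := Finset.mem_erase.2 ⟨fun h => hu' (Or.inr h), hmem⟩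
      have hkey : keyOf f' = keyOf f := by rw [keyOf, keyOf, if_neg hs, if_neg hs', hd']
      have hpos : 1 ≤ f.natDegree := (hSi f (hRS f hf).1).natDegree_pos
      refine ⟨1, f.natDegree, by rw [keyOf, if_neg hs], hpos, by simpa [numOf] using (hfacts f hf).1, ?_,
        Or.inr ⟨rfl, rfl, f', hf'R, hne, hkey, hd', hle, ⟨c, hc, hcf⟩, ?_⟩⟩
      · have h3 := Finset.sum_le_sum_of_subset (f := fun g : F[X] => e g * g.natDegree)
          (show ({f, f'} : Finset F[X]) ⊆ R.filter (fun g => keyOf g = keyOf f) by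
            intro x hx
            simp only [Finset.mem_insert, Finset.mem_singleton] at hx
            rcases hx with rfl | rfl
            exacts [hfmem, Finset.mem_filter.2 ⟨hf'R, hkey⟩])
        rw [Finset.sum_pair (Ne.symm hne), hd'] at h3
        calc 2 * f.natDegree * e f = e f * f.natDegree + e f * f.natDegree := by ring
          _ ≤ e f * f.natDegree + e f' * f.natDegree := Nat.add_le_add_left (Nat.mul_le_mul_right _ hle) _
          _ ≤ _ := h3
      · rcases (hfacts f' hf'R).2 with ⟨h, -⟩ | ⟨-, f'', hm'', hi'', -, -, -, -, c', hc', hcf'⟩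
        · exact absurd h hs'
        refine ⟨c', hc', ?_⟩
        have h0 : f.coeff 0 ≠ 0 := fun h => hSX f (hRS f hf).1 (eq_of_monic_of_associated (hSm f (hRS f hf).1)
          monic_X ((irreducible_X.associated_of_dvd (hSi f (hRS f hf).1) (X_dvd_iff.2 h)).symm))
        have hrr : f.reverse.reverse = f := by
          have hn : f.reverse.natDegree = f.natDegree := by
            rw [Polynomial.reverse_natDegree, Polynomial.natTrailingDegree_eq_zero.2 (Or.inr h0), Nat.sub_zero]
          change Polynomial.reflect f.reverse.natDegree (Polynomial.reflect f.natDegree f) = f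
          rw [hn, Polynomial.reflect_reflect]
        rw [hcf, reverse_mul_of_domain, Polynomial.reverse_C, hcf'] at hrr
        have hff : f'' = f := by
          refine eq_of_monic_of_associated hm'' (hSm f (hRS f hf).1) ?_
          rw [← hrr, ← mul_assoc, ← map_mul]
          exact (associated_isUnit_mul_left_iff (isUnit_C.2 (mul_ne_zero hc hc').isUnit)).2 (Associated.refl _) |>.symm
        rw [hcf', hff]
  have hsum : ∀ T : Finset F[X], T ⊆ R → Set.InjOn keyOf (T : Set F[X]) →
      (∑ f ∈ T, ∑ g ∈ R.filter (fun g => keyOf g = keyOf f), e g * g.natDegree) + e₀ ≤ μ.natDegree := by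
    intro T hT hinj
    rw [hμdeg, add_comm e₀, ← Finset.sum_biUnion (fun x hx y hy hxy => Finset.disjoint_left.2 fun z hz hz' =>
      hxy (hinj hx hy ((Finset.mem_filter.1 hz).2.symm.trans (Finset.mem_filter.1 hz').2)))]
    exact Nat.add_le_add_right (Finset.sum_le_sum_of_subset fun z hz => by
      obtain ⟨x, -, hx⟩ := Finset.mem_biUnion.1 hz
      exact (Finset.mem_filter.1 hx).1) _
  have one : ∀ {f k d}, f ∈ R → keyOf f = (k, d) → 1 ≤ e f ∧ 1 ≤ d ∧ k ≤ 1 ∧ 2 * d * e f + e₀ ≤ μ.natDegree ∧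
      f ∣ X ^ numOf q (k, d) - 1 := by
    intro f k d hf hk
    obtain ⟨k', d', hk', hd, hdiv, hw, hcases⟩ := hclass f hf
    obtain ⟨rfl, rfl⟩ : k' = k ∧ d' = d := by simpa using hk'.symm.trans hk
    have := hsum {f} (by simpa using hf) (by simp)
    rw [Finset.sum_singleton] at this
    exact ⟨he1 f (hRS f hf).1, hd, by rcases hcases with ⟨rfl, -⟩ | ⟨rfl, -⟩ <;> omega, by omega, hdiv⟩
  have weight : ∀ {f k d}, f ∈ R → keyOf f = (k, d) →
      2 * d * e f ≤ ∑ g ∈ R.filter (fun g => keyOf g = keyOf f), e g * g.natDegree := by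
    intro f k d hf hk
    obtain ⟨k', d', hk', -, -, hw, -⟩ := hclass f hf
    obtain ⟨rfl, rfl⟩ : k' = k ∧ d' = d := by simpa using hk'.symm.trans hk
    exact hw
  have two : ∀ {f k d f₂ k₂ d₂}, f ∈ R → keyOf f = (k, d) → f₂ ∈ R → keyOf f₂ = (k₂, d₂) → (k, d) ≠ (k₂, d₂) →
      2 * d * e f + 2 * d₂ * e f₂ + e₀ ≤ μ.natDegree := by
    intro f k d f₂ k₂ d₂ hf hk hf₂ hk₂ hne
    have hne' : f ≠ f₂ := fun h => hne (hk.symm.trans (h ▸ hk₂))
    have := hsum {f, f₂} (by simp [Finset.insert_subset_iff, hf, hf₂]) (by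
      intro x hx y hy hxy
      simp only [Finset.coe_pair, Set.mem_insert_iff, Set.mem_singleton_iff] at hx hy
      rcases hx with rfl | rfl <;> rcases hy with rfl | rfl <;> first
        | rfl
        | exact absurd (hk.symm.trans (hxy.trans hk₂)) hne
        | exact absurd (hk.symm.trans (hxy.symm.trans hk₂)) hne)
    rw [Finset.sum_pair hne'] at this
    have := weight hf hk
    have := weight hf₂ hk₂
    omega
  have three : ∀ {f k d f₂ k₂ d₂ f₃ k₃ d₃}, f ∈ R → keyOf f = (k, d) → f₂ ∈ R → keyOf f₂ = (k₂, d₂) →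
      f₃ ∈ R → keyOf f₃ = (k₃, d₃) → (k, d) ≠ (k₂, d₂) → (k, d) ≠ (k₃, d₃) → (k₂, d₂) ≠ (k₃, d₃) →
      2 * d * e f + 2 * d₂ * e f₂ + 2 * d₃ * e f₃ + e₀ ≤ μ.natDegree := by
    intro f k d f₂ k₂ d₂ f₃ k₃ d₃ hf hk hf₂ hk₂ hf₃ hk₃ h12 h13 h23
    have := hsum {f, f₂, f₃} (by simp [Finset.insert_subset_iff, hf, hf₂, hf₃]) (by
      intro x hx y hy hxy
      simp only [Finset.coe_insert, Finset.coe_singleton, Set.mem_insert_iff, Set.mem_singleton_iff] at hx hy
      rcases hx with rfl | rfl | rfl <;> rcases hy with rfl | rfl | rfl <;> first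
        | rfl
        | exact absurd (hk.symm.trans (hxy.trans hk₂)) h12
        | exact absurd (hk.symm.trans (hxy.symm.trans hk₂)) h12
        | exact absurd (hk.symm.trans (hxy.trans hk₃)) h13
        | exact absurd (hk.symm.trans (hxy.symm.trans hk₃)) h13
        | exact absurd (hk₂.symm.trans (hxy.trans hk₃)) h23
        | exact absurd (hk₂.symm.trans (hxy.symm.trans hk₃)) h23)
    have n12 : f ≠ f₂ := fun h => h12 (hk.symm.trans (h ▸ hk₂))
    have n13 : f ≠ f₃ := fun h => h13 (hk.symm.trans (h ▸ hk₃))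
    have n23 : f₂ ≠ f₃ := fun h => h23 (hk₂.symm.trans (h ▸ hk₃))
    rw [Finset.sum_insert (by simp [n12, n13]), Finset.sum_pair n23] at this
    have := weight hf hk
    have := weight hf₂ hk₂
    have := weight hf₃ hk₃
    omega
  have hpar : 1 ≤ e₀ → Even e₀ → μ.natDegree ≤ 7 := by
    intro h1 hev
    obtain ⟨k, hk⟩ : ∃ k, e₀ = 2 * k + 2 := by
      obtain ⟨m, hm⟩ := hev
      exact ⟨m - 1, by omega⟩
    have hlt := no_even_block hQ h2 hg.mem (g := g) (k := k) (r := ∏ f ∈ R, f ^ e f)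
      (by rw [← hk]; exact hsplit) ?_
    · rw [hdim] at hlt
      exact Nat.lt_succ_iff.1 hlt
    rw [eval_prod]
    refine Finset.prod_ne_zero_iff.2 fun f hf => ?_
    rw [eval_pow]
    refine pow_ne_zero _ fun h0 => (hRS f hf).2 (Or.inr ?_)
    rw [hX1]
    exact eq_of_monic_of_associated (hSm f (hRS f hf).1) (monic_X_sub_C _)
      ((irreducible_X_sub_C (-1 : F)).associated_of_dvd (hSi f (hRS f hf).1) (dvd_iff_isRoot.2 h0)).symm
  -- killing
  have kill : ∀ (L s : ℕ), (1 ≤ e₀ → Even L) → (∀ f k d, f ∈ R → keyOf f = (k, d) → numOf q (k, d) ∣ L) →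
      (∀ f ∈ S, e f ≤ p ^ s) → orderOf g ∣ L * p ^ s := by
    intro L s hev hnum hexp
    refine orderOf_dvd_of_pow_eq_one ?_
    have hdv : μ ∣ (X ^ L - 1) ^ p ^ s := by
      rw [hμprod]
      refine Finset.prod_dvd_of_coprime (fun f hf f' hf' hne => ?_) fun f hf => ?_
      · refine IsCoprime.pow ((hSi f hf).coprime_iff_not_dvd.2 fun h => hne ?_)
        exact eq_of_monic_of_associated (hSm f hf) (hSm f' hf') ((hSi f hf).associated_of_dvd (hSi f' hf') h)
      · refine (pow_dvd_pow _ (hexp f hf)).trans (pow_dvd_pow_of_dvd ?_ _)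
        by_cases h : f = X + 1
        · subst h
          have : Even L := hev (he1 _ hf)
          rw [hX1, dvd_iff_isRoot]
          simp [this.neg_one_pow]
        · obtain ⟨k, d, hk, -⟩ := hclass f (Finset.mem_erase.2 ⟨h, hf⟩)
          exact ((one (Finset.mem_erase.2 ⟨h, hf⟩) hk).2.2.2.2).trans
            (OrderBound.X_pow_sub_one_dvd (hnum f k d (Finset.mem_erase.2 ⟨h, hf⟩) hk))
    obtain ⟨r, hr⟩ := hdv
    have h1 := congrArg (aeval G) hr
    rw [sub_pow_char_pow, one_pow, ← pow_mul, map_sub, map_pow, aeval_X, map_one, map_mul, hμdef, minpoly.aeval,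
      zero_mul, sub_eq_zero] at h1
    exact LinearEquiv.ext fun x => by rw [← end_pow_apply, ← hG, h1]; rfl
  have ev1 : Even (q + 1) := ⟨t + 1, by omega⟩
  have ev1' : Even (q - 1) := ⟨t, by omega⟩
  have dA : q + 1 ∣ q ^ 3 + 1 := Cfsg.Agent.Lie.SpEight.add_one_dvd_cube q
  have dB : q - 1 ∣ q ^ 3 - 1 := Nat.sub_one_dvd_pow_sub_one q 3
  obtain ⟨f4, f2⟩ := four_factor (q := q)
  have dC : q + 1 ∣ q ^ 2 - 1 := f2 ▸ dvd_mul_right _ _
  have dD : q - 1 ∣ q ^ 2 - 1 := f2 ▸ dvd_mul_left _ _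
  have evsq : Even (q ^ 2 - 1) := f2 ▸ ev1.mul_right _
  have evl : ∀ {x y : ℕ}, Even y → Even (Nat.lcm x y) := fun {x y} h =>
    even_iff_two_dvd.2 ((even_iff_two_dvd.1 h).trans (Nat.dvd_lcm_right _ _))
  have numA : ∀ {k : ℕ}, k ≤ 1 → numOf q (k, 1) = if k = 0 then q + 1 else q - 1 := fun {k} _ => by simp [numOf]
  have memR : ∀ {f}, f ∈ S → f = X + 1 ∨ f ∈ R := fun {f} hf => by
    by_cases h : f = X + 1
    exacts [Or.inl h, Or.inr (Finset.mem_erase.2 ⟨h, hf⟩)]
  by_cases hE : ∀ f ∈ S, e f ≤ p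
  swap
  · -- a multiplicity above `p`
    push Not at hE
    obtain ⟨h, hh, hbig⟩ := hE
    rcases memR hh with rfl | hhR
    · rw [← he₀] at hbig
      have hN7 : Even e₀ → μ.natDegree ≤ 7 := hpar (by omega)
      have hod : μ.natDegree ≤ 7 ∨ e₀ % 2 = 1 := by
        rcases Nat.even_or_odd e₀ with h' | h'
        exacts [Or.inl (hN7 h'), Or.inr (Nat.odd_iff.1 h')]
      have hbound : e₀ ≤ μ.natDegree := by omega
      have hp7 : p = 3 ∨ p = 5 := by
        have hp6 : p ≤ 6 := by omega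
        interval_cases p
        all_goals first | exact Or.inl rfl | exact Or.inr rfl | (exfalso; revert hp; decide)
      rcases hp7 with hp' | hp'
      · have hrest : ∀ f k d, f ∈ R → keyOf f = (k, d) → d = 1 ∧ e f = 1 := by
          intro f k d hf hk
          obtain ⟨h1, hd, -, hw, -⟩ := one hf hk
          have : 2 * d * e f ≤ 3 := by omega
          constructor <;> nlinarith
        obtain ⟨L, hL, hLd⟩ : ∃ L, (L = q - 1 ∨ L = q + 1) ∧ ∀ f k d, f ∈ R → keyOf f = (k, d) → numOf q (k, d) ∣ L := by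
          by_cases hb : ∃ f ∈ R, keyOf f = (1, 1)
          · refine ⟨q - 1, Or.inl rfl, fun f k d hf hk => ?_⟩
            obtain ⟨f₁, hf₁, hk₁⟩ := hb
            obtain ⟨rfl, he'⟩ := hrest f k d hf hk
            obtain ⟨h1, -, hk01, -, -⟩ := one hf hk
            obtain ⟨h1', -, -, -, -⟩ := one hf₁ hk₁
            rw [numA hk01]
            split_ifs with hk0
            · have := two hf hk hf₁ hk₁ (by simp [hk0])
              omega
            · exact dvd_rfl
          · refine ⟨q + 1, Or.inr rfl, fun f k d hf hk => ?_⟩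
            obtain ⟨rfl, -⟩ := hrest f k d hf hk
            obtain ⟨-, -, hk01, -, -⟩ := one hf hk
            rw [numA hk01]
            split_ifs with hk0
            · exact dvd_rfl
            · exact absurd ⟨f, hf, by rw [hk, show k = 1 by omega]⟩ hb
        have hexp : ∀ f ∈ S, e f ≤ p ^ 2 := by
          intro f hf
          rw [hp']
          rcases memR hf with rfl | hfR
          · rw [← he₀]; omega
          · obtain ⟨k, d, hk, -⟩ := hclass f hfR
            have := (hrest f k d hfR hk).2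
            omega
        have hko := kill L 2 (fun _ => by rcases hL with rfl | rfl <;> assumption) hLd hexp
        subst hp'
        refine Or.inr (Or.inr (Or.inr (Or.inr (Or.inr (Or.inr (Or.inl ⟨rfl, ?_⟩))))))
        have hco : ∀ {x : ℕ}, x ∣ q ^ 4 - 1 → Nat.lcm x 9 = x * 3 ^ 2 := fun {x} hx =>
          Nat.Coprime.lcm_eq_mul ((coprime_of_dvd (p := 3) hpq (by omega) hx).pow_right 2)
        rcases hL with rfl | rfl
        · exact Or.inl (by rw [hco (Nat.sub_one_dvd_pow_sub_one q 4)]; exact hko)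
        · exact Or.inr (by rw [hco (dC.trans (f4 ▸ dvd_mul_left _ _))]; exact hko)
      · have hrest : ∀ f k d, f ∈ R → keyOf f = (k, d) → False := by
          intro f k d hf hk
          obtain ⟨h1, hd, -, hw, -⟩ := one hf hk
          have : 2 ≤ 2 * d * e f := by nlinarith
          omega
        have hko := kill 2 2 (fun _ => even_two) (fun f k d hf hk => (hrest f k d hf hk).elim) (by
          intro f hf
          rw [hp']
          rcases memR hf with rfl | hfR
          · rw [← he₀]; omega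
          · obtain ⟨k, d, hk, -⟩ := hclass f hfR
            exact (hrest f k d hfR hk).elim)
        subst hp'
        refine Or.inr (Or.inr (Or.inr (Or.inr (Or.inr (Or.inr (Or.inr ⟨rfl, ?_⟩))))))
        rw [Nat.Coprime.lcm_eq_mul (by norm_num)]
        exact hko
    · obtain ⟨k, d, hk, -⟩ := hclass h hhR
      obtain ⟨h1, hd, hk01, hw, -⟩ := one hhR hk
      have hd1 : d = 1 := by nlinarith
      subst hd1
      have hp' : p = 3 := by omega
      subst hp'
      have hrest : ∀ f k' d', f ∈ R → keyOf f = (k', d') → (k', d') = (k, 1) := by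
        intro f k' d' hf hk'
        by_contra hne
        obtain ⟨h1', hd', -, -, -⟩ := one hf hk'
        have := two hhR hk hf hk' (Ne.symm hne)
        have : 1 ≤ d' * e f := by nlinarith
        nlinarith
      have hko := kill (if k = 0 then q + 1 else q - 1) 2 (fun _ => by split_ifs <;> assumption)
        (fun f k' d' hf hk' => by
          rw [hrest f k' d' hf hk', numA hk01]) (by
          intro f hf
          rcases memR hf with rfl | hfR
          · rw [← he₀]; norm_num; omega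
          · obtain ⟨k', d', hk', -⟩ := hclass f hfR
            obtain ⟨-, hd', -, hw', -⟩ := one hfR hk'
            have : 2 * e f ≤ 2 * d' * e f := by nlinarith
            norm_num
            omega)
      refine Or.inr (Or.inr (Or.inr (Or.inr (Or.inr (Or.inr (Or.inl ⟨rfl, ?_⟩))))))
      have hco : ∀ {x : ℕ}, x ∣ q ^ 4 - 1 → Nat.lcm x 9 = x * 3 ^ 2 := fun {x} hx =>
        Nat.Coprime.lcm_eq_mul ((coprime_of_dvd (p := 3) hpq (by omega) hx).pow_right 2)
      split_ifs at hko with hk0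
      · exact Or.inr (by rw [hco (dC.trans (f4 ▸ dvd_mul_left _ _))]; exact hko)
      · exact Or.inl (by rw [hco (Nat.sub_one_dvd_pow_sub_one q 4)]; exact hko)
  by_cases hE1 : ∀ f ∈ S, e f ≤ 1
  · -- squarefree
    have hexp : ∀ f ∈ S, e f ≤ p ^ 0 := by simpa using hE1
    have hko : ∀ L, (1 ≤ e₀ → Even L) → (∀ f k d, f ∈ R → keyOf f = (k, d) → numOf q (k, d) ∣ L) →
        orderOf g ∣ L := fun L h1 h3 => by simpa using kill L 0 h1 h3 hexp
    by_cases h4 : ∃ f ∈ R, ∃ k d, keyOf f = (k, d) ∧ 4 ≤ d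
    · obtain ⟨f, hf, k, d, hk, hd⟩ := h4
      obtain ⟨h1, -, hk01, hw, hdiv⟩ := one hf hk
      obtain ⟨k', d', hk', -, -, -, hcases⟩ := hclass f hf
      obtain ⟨rfl, rfl⟩ : k' = k ∧ d' = d := by simpa using hk'.symm.trans hk
      have hd4 : d' = 4 ∧ e₀ = 0 ∧ e f = 1 ∧ μ.natDegree = 8 := by
        have : 8 ≤ 2 * d' * e f := by nlinarith
        refine ⟨?_, by omega, ?_, by omega⟩ <;> nlinarith
      obtain ⟨rfl, he00, hef, hμ8⟩ := hd4
      rcases hcases with ⟨rfl, hdeg'⟩ | ⟨rfl, hdeg', f', hf', hne, hkey, hd', hle, hc, ⟨c', hc', hrev'⟩⟩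
      · exfalso
        have hμf : μ = f :=
          eq_of_monic_of_dvd_of_natDegree_le (hSm f (hRS f hf).1) hμm (hSdvd f (hRS f hf).1) (by omega)
        exact no_octic hcount h2 hg.mem (by rw [← hμdef, hμf]; exact hSi f (hRS f hf).1) hμ8
          (by rw [← hμdef, hμf]; simpa [numOf] using hdiv)
      · obtain ⟨c, hc, hrev0⟩ := hc
        have hff : μ = f * f' := by
          refine eq_of_monic_of_dvd_of_natDegree_le ((hSm f (hRS f hf).1).mul (hSm f' (hRS f' hf').1)) hμm ?_ ?_
          · refine IsCoprime.mul_dvd ((hSi f (hRS f hf).1).coprime_iff_not_dvd.2 fun h => hne ?_)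
              (hSdvd f (hRS f hf).1) (hSdvd f' (hRS f' hf').1)
            exact (eq_of_monic_of_associated (hSm f (hRS f hf).1) (hSm f' (hRS f' hf').1)
              ((hSi f (hRS f hf).1).associated_of_dvd (hSi f' (hRS f' hf').1) h)).symm
          · rw [(hSm f (hRS f hf).1).natDegree_mul (hSm f' (hRS f' hf').1)]; omega
        have hdf : f ∣ X ^ Nat.lcm (q ^ 2 - 1) (q ^ 2 + 1) - 1 :=
          quartic_pair hQ h2 hdim hg (hSm f (hRS f hf).1) (hSi f (hRS f hf).1) (hSi f' (hRS f' hf').1) hne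
            (hSm f' (hRS f' hf').1) hdeg' hd' hc hrev0 hc' hrev' hff
        have hdf' : f' ∣ X ^ Nat.lcm (q ^ 2 - 1) (q ^ 2 + 1) - 1 :=
          quartic_pair hQ h2 hdim hg (hSm f' (hRS f' hf').1) (hSi f' (hRS f' hf').1) (hSi f (hRS f hf).1) hne.symm
            (hSm f (hRS f hf).1) hd' hdeg' hc' hrev' hc hrev0 (by rw [← hμdef, hff, mul_comm])
        have hdv : μ ∣ X ^ Nat.lcm (q ^ 2 - 1) (q ^ 2 + 1) - 1 := by
          rw [hff]
          refine IsCoprime.mul_dvd ((hSi f (hRS f hf).1).coprime_iff_not_dvd.2 fun h => hne ?_) hdf hdf'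
          exact (eq_of_monic_of_associated (hSm f (hRS f hf).1) (hSm f' (hRS f' hf').1)
            ((hSi f (hRS f hf).1).associated_of_dvd (hSi f' (hRS f' hf').1) h)).symm
        obtain ⟨r, hr⟩ := hdv
        have h1' := congrArg (aeval G) hr
        rw [map_sub, map_pow, aeval_X, map_one, map_mul, hμdef, minpoly.aeval, zero_mul, sub_eq_zero] at h1'
        exact Or.inl (orderOf_dvd_of_pow_eq_one (LinearEquiv.ext fun x => by
          rw [← end_pow_apply, ← hG, h1']; rfl))
    push Not at h4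
    by_cases h3 : ∃ f ∈ R, ∃ k, keyOf f = (k, 3)
    · obtain ⟨f, hf, k, hk⟩ := h3
      obtain ⟨h1, -, hk01, hw, -⟩ := one hf hk
      have hothers : ∀ f' k' d', f' ∈ R → keyOf f' = (k', d') → (k', d') = (k, 3) ∨ (d' = 1 ∧ k' ≤ 1) := by
        intro f' k' d' hf' hk'
        by_cases he' : (k', d') = (k, 3)
        · exact Or.inl he'
        obtain ⟨h1', hd', hk01', -, -⟩ := one hf' hk'
        have := two hf hk hf' hk' (Ne.symm he')
        exact Or.inr ⟨by nlinarith, hk01'⟩
      rcases Nat.eq_zero_or_pos k with rfl | hkpos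
      · refine Or.inr (Or.inr (Or.inl (hko _ (fun _ => evl ev1') fun f' k' d' hf' hk' => ?_)))
        rcases hothers f' k' d' hf' hk' with he' | ⟨rfl, hk01'⟩
        · rw [he']; exact Nat.dvd_lcm_left _ _
        · rw [numA hk01']
          split_ifs
          · exact dA.trans (Nat.dvd_lcm_left _ _)
          · exact Nat.dvd_lcm_right _ _
      · obtain rfl : k = 1 := by omega
        refine Or.inr (Or.inl (hko _ (fun _ => evl ev1) fun f' k' d' hf' hk' => ?_))
        rcases hothers f' k' d' hf' hk' with he' | ⟨rfl, hk01'⟩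
        · rw [he']; exact Nat.dvd_lcm_left _ _
        · rw [numA hk01']
          split_ifs
          · exact Nat.dvd_lcm_right _ _
          · exact dB.trans (Nat.dvd_lcm_left _ _)
    push Not at h3
    refine Or.inl (hko _ (fun _ => even_iff_two_dvd.2 ((even_iff_two_dvd.1 evsq).trans (Nat.dvd_lcm_left _ _)))
      fun f k d hf hk => ?_)
    obtain ⟨-, hd, hk01, -, -⟩ := one hf hk
    have hd3 : d < 4 := h4 f hf k d hk
    have hdne : d ≠ 3 := fun h => h3 f hf k (h ▸ hk)
    rcases (show d = 1 ∨ d = 2 by omega) with rfl | rfl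
    · rw [numA hk01]
      split_ifs
      · exact dC.trans (Nat.dvd_lcm_left _ _)
      · exact dD.trans (Nat.dvd_lcm_left _ _)
    · rw [numOf]
      split_ifs
      · exact Nat.dvd_lcm_right _ _
      · exact Nat.dvd_lcm_left _ _
  -- a repeated factor
  push Not at hE1
  obtain ⟨h, hh, hh2⟩ := hE1
  have hexp : ∀ f ∈ S, e f ≤ p ^ 1 := by simpa using hE
  have hcase : (2 ≤ e₀) ∨ ∃ k d, h ∈ R ∧ keyOf h = (k, d) := by
    rcases memR hh with rfl | hhR
    · exact Or.inl (by rw [he₀]; omega)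
    · obtain ⟨k, d, hk, -⟩ := hclass h hhR
      exact Or.inr ⟨k, d, hhR, hk⟩
  have hd2 : ∀ f k d, f ∈ R → keyOf f = (k, d) → d ≤ 2 := by
    intro f k d hf hk
    by_contra hd
    obtain ⟨h1, -, -, hw, -⟩ := one hf hk
    rcases hcase with he2 | ⟨k', d', hhR, hk'⟩
    · have : 6 ≤ 2 * d * e f := by nlinarith
      have hpar' : μ.natDegree ≤ 7 := hpar (by omega) ⟨1, by omega⟩
      omega
    · obtain ⟨h1', hd', -, hw', -⟩ := one hhR hk'
      by_cases heq : (k, d) = (k', d')
      · obtain ⟨rfl, rfl⟩ : k = k' ∧ d = d' := by simpa using heq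
        nlinarith
      · have := two hf hk hhR hk' heq
        nlinarith
  by_cases h22 : ∃ f ∈ R, keyOf f = (0, 2)
  · obtain ⟨f, hf, hk⟩ := h22
    have hnot : ∀ f₂ f₃ k₂ d₂ k₃ d₃, f₂ ∈ R → keyOf f₂ = (k₂, d₂) → f₃ ∈ R → keyOf f₃ = (k₃, d₃) →
        (k₂, d₂) ≠ (0, 2) → (k₃, d₃) ≠ (0, 2) → (k₂, d₂) ≠ (k₃, d₃) → False := by
      intro f₂ f₃ k₂ d₂ k₃ d₃ hf₂ hk₂ hf₃ hk₃ n2 n3 n23
      obtain ⟨a1, -, -, -, -⟩ := one hf hk
      obtain ⟨a2, b2, -, -, -⟩ := one hf₂ hk₂
      obtain ⟨a3, b3, -, -, -⟩ := one hf₃ hk₃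
      have h3' := three hf hk hf₂ hk₂ hf₃ hk₃ n2.symm n3.symm n23
      have : 1 ≤ d₂ * e f₂ := by nlinarith
      have : 1 ≤ d₃ * e f₃ := by nlinarith
      rcases hcase with he2 | ⟨k', d', hhR, hk'⟩
      · nlinarith
      · obtain ⟨-, hd', -, -, -⟩ := one hhR hk'
        have : 2 ≤ d' * e h := by nlinarith
        by_cases e2 : (k', d') = (0, 2)
        · obtain ⟨rfl, rfl⟩ : k' = 0 ∧ d' = 2 := by simpa using e2
          have := three hhR hk' hf₂ hk₂ hf₃ hk₃ n2.symm n3.symm n23
          nlinarith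
        by_cases e3 : (k', d') = (k₂, d₂)
        · have := three hf hk hhR hk' hf₃ hk₃ (Ne.symm e2) n3.symm (by rw [e3]; exact n23)
          nlinarith
        · have := three hf hk hf₂ hk₂ hhR hk' n2.symm (Ne.symm e2) (Ne.symm e3)
          nlinarith
    have h12 : ∀ f₂, f₂ ∈ R → keyOf f₂ = (1, 2) → False := by
      intro f₂ hf₂ hk₂
      obtain ⟨a1, -, -, -, -⟩ := one hf hk
      obtain ⟨a2, -, -, -, -⟩ := one hf₂ hk₂
      have h2' := two hf hk hf₂ hk₂ (by simp)
      rcases hcase with he2 | ⟨k', d', hhR, hk'⟩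
      · omega
      · obtain ⟨-, hd', -, -, -⟩ := one hhR hk'
        by_cases e2 : (k', d') = (0, 2)
        · obtain ⟨rfl, rfl⟩ : k' = 0 ∧ d' = 2 := by simpa using e2
          have := two hhR hk' hf₂ hk₂ (by simp)
          omega
        by_cases e3 : (k', d') = (1, 2)
        · obtain ⟨rfl, rfl⟩ : k' = 1 ∧ d' = 2 := by simpa using e3
          have := two hf hk hhR hk' (by simp)
          omega
        · exact hnot f₂ h 1 2 k' d' hf₂ hk₂ hhR hk' (by simp) e2 (Ne.symm e3)
    by_cases hb : ∃ f₂ ∈ R, keyOf f₂ = (1, 1)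
    · obtain ⟨f₂, hf₂, hk₂⟩ := hb
      have hko := kill (Nat.lcm (q ^ 2 + 1) (q - 1)) 1 (fun _ => evl ev1') (fun f' k' d' hf' hk' => by
        obtain ⟨-, hd', hk01', -, -⟩ := one hf' hk'
        have := hd2 f' k' d' hf' hk'
        rcases (show d' = 1 ∨ d' = 2 by omega) with rfl | rfl
        · rcases Nat.eq_zero_or_pos k' with rfl | hkp
          · exact (hnot f₂ f' 1 1 0 1 hf₂ hk₂ hf' hk' (by simp) (by simp) (by simp)).elim
          · rw [numA hk01', if_neg (by omega)]; exact Nat.dvd_lcm_right _ _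
        · rcases Nat.eq_zero_or_pos k' with rfl | hkp
          · exact Nat.dvd_lcm_left _ _
          · exact (h12 f' hf' (by rw [hk', show k' = 1 by omega])).elim) hexp
      refine Or.inr (Or.inr (Or.inr (Or.inl ?_)))
      rw [Nat.Coprime.lcm_eq_mul (coprime_of_dvd hpq (by omega) (Nat.lcm_dvd (f4 ▸ dvd_mul_right _ _)
        (Nat.sub_one_dvd_pow_sub_one q 4)))]
      simpa using hko
    · have hko := kill (Nat.lcm (q ^ 2 + 1) (q + 1)) 1 (fun _ => evl ev1) (fun f' k' d' hf' hk' => by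
        obtain ⟨-, hd', hk01', -, -⟩ := one hf' hk'
        have := hd2 f' k' d' hf' hk'
        rcases (show d' = 1 ∨ d' = 2 by omega) with rfl | rfl
        · rcases Nat.eq_zero_or_pos k' with rfl | hkp
          · rw [numA hk01', if_pos rfl]; exact Nat.dvd_lcm_right _ _
          · exact absurd ⟨f', hf', by rw [hk', show k' = 1 by omega]⟩ hb
        · rcases Nat.eq_zero_or_pos k' with rfl | hkp
          · exact Nat.dvd_lcm_left _ _
          · exact (h12 f' hf' (by rw [hk', show k' = 1 by omega])).elim) hexp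
      refine Or.inr (Or.inr (Or.inr (Or.inr (Or.inl ?_))))
      rw [Nat.Coprime.lcm_eq_mul (coprime_of_dvd hpq (by omega) (Nat.lcm_dvd (f4 ▸ dvd_mul_right _ _)
        (dC.trans (f4 ▸ dvd_mul_left _ _))))]
      simpa using hko
  push Not at h22
  have hko := kill (q ^ 2 - 1) 1 (fun _ => evsq) (fun f' k' d' hf' hk' => by
    obtain ⟨-, hd', hk01', -, -⟩ := one hf' hk'
    have := hd2 f' k' d' hf' hk'
    rcases (show d' = 1 ∨ d' = 2 by omega) with rfl | rfl
    · rw [numA hk01']
      split_ifs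
      exacts [dC, dD]
    · rcases Nat.eq_zero_or_pos k' with rfl | hkp
      · exact absurd hk' (h22 f' hf')
      · rw [numOf, if_neg (show ¬ k' = 0 by omega)]) hexp
  refine Or.inr (Or.inr (Or.inr (Or.inr (Or.inr (Or.inl ?_)))))
  rw [Nat.Coprime.lcm_eq_mul (coprime_of_dvd hpq (by omega) (f4 ▸ dvd_mul_left _ _))]
  simpa using hko

end Cfsg.Agent.Lie.OrthNine
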