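import Cfsg.Agent.Lib.Lie.OrthNine.Basic
import Cfsg.Agent.Lib.Classical.IsometryOrderBound
import Cfsg.Agent.Lib.Small.OrthogonalPrimeClasses
import Cfsg.Agent.Lib.Small.Orth.Levi

/-!
Three facts about the minimal polynomial of a fixed-point-free isometry of the hyperbolic space of dimension eight:
the parity of the exponent of `X + 1`, no irreducible factor of degree eight, and a pair of quartic factors.
-/

set_option autoImplicit false
set_option linter.unusedSectionVars false

namespace Cfsg.Agent.Lie.OrthNine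

open Module QuadraticMap Polynomial Cfsg.Agent.Classical Cfsg.Agent.Classical.OCount Cfsg.Agent.Classical.ORefl
  Cfsg.Agent.Classical.OOmega Cfsg.Agent.Small Cfsg.Agent.Small.Orth

variable {F : Type*} [Field F] {V : Type*} [AddCommGroup V] [Module F V] [FiniteDimensional F V]
  {Q : QuadraticForm F V}

theorem end_pow_apply (g : V ≃ₗ[F] V) : ∀ (n : ℕ) (x : V), ((g : Module.End F V) ^ n) x = (g ^ n) x
  | 0, x => rfl
  | n + 1, x => by rw [pow_succ', pow_succ', Module.End.mul_apply, end_pow_apply g n]; rfl

/-- Adjoints of polynomials in an isometry. -/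
theorem polar_aeval {g : V ≃ₗ[F] V} (hg : g ∈ Iso Q) (P : F[X]) (x y : V) :
    polar Q (aeval (g : Module.End F V) P x) y = polar Q x (aeval (g.symm : Module.End F V) P y) := by
  induction P using Polynomial.induction_on generalizing x y with
  | C c => simp [Module.algebraMap_end_apply, polar_smul_left, polar_smul_right]
  | add p q hp hq => simp [polar_add_left, polar_add_right, hp, hq]
  | monomial n c ih =>
    have e : ∀ (h : Module.End F V) (z : V),
        aeval h (Polynomial.C c * X ^ (n + 1)) z = aeval h (Polynomial.C c * X ^ n) (h z) := fun h z => by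
      rw [pow_succ, ← mul_assoc, map_mul, aeval_X, Module.End.mul_apply]
    rw [e, ih]
    conv_rhs => rw [pow_succ', mul_left_comm, map_mul, aeval_X, Module.End.mul_apply]
    conv_rhs => rw [← polar_iso hg]
    rw [LinearEquiv.coe_coe, LinearEquiv.coe_coe, g.apply_symm_apply]

theorem commute_aeval {A : Type*} [Ring A] [Algebra F A] {G H : A} (h : Commute G H) (P R : F[X]) :
    Commute (aeval G P) (aeval H R) := by
  have h1 : Commute G (aeval H R) := by
    induction R using Polynomial.induction_on' with
    | add p q hp hq => rw [map_add]; exact hp.add_right hq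
    | monomial n z => rw [aeval_monomial]; exact (Algebra.commute_algebraMap_right z G).mul_right (h.pow_right n)
  induction P using Polynomial.induction_on' with
  | add p q hp hq => rw [map_add]; exact hp.add_left hq
  | monomial n z => rw [aeval_monomial]; exact (Algebra.commute_algebraMap_left z _).mul_left (h1.pow_left n)

theorem symm_mul (g : V ≃ₗ[F] V) :
    (g : Module.End F V) * (g.symm : Module.End F V) = 1 ∧ (g.symm : Module.End F V) * (g : Module.End F V) = 1 :=
  ⟨LinearMap.ext fun x => g.apply_symm_apply x, LinearMap.ext fun x => g.symm_apply_apply x⟩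

theorem minpoly_cases (g : Module.End F V) {A R : F[X]} (hμ : minpoly F g = A * R) (hR : R.natDegree ≠ 0)
    (hA : A ≠ 0) : aeval g A ≠ 0 := fun h => by
  have hR0 : R ≠ 0 := fun h0 => hR (by rw [h0, natDegree_zero])
  have := natDegree_le_of_dvd (minpoly.dvd F g h) hA
  rw [hμ, natDegree_mul hA hR0] at this
  omega

/-- A minimal polynomial of full degree has no even power of `X + 1`. -/
theorem no_even_block [Fintype F] (hQ : PND Q) (h2 : (2 : F) ≠ 0) {g : V ≃ₗ[F] V} (hg : g ∈ Iso Q) {k : ℕ}
    {r : F[X]} (hμ : minpoly F (g : Module.End F V) = (X + 1) ^ (2 * k + 2) * r) (hr : r.eval (-1) ≠ 0) :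
    (minpoly F (g : Module.End F V)).natDegree < finrank F V := by
  set G : Module.End F V := (g : Module.End F V) with hG
  set H : Module.End F V := (g.symm : Module.End F V) with hH
  obtain ⟨hGH, hHG⟩ := symm_mul g
  have hle : (minpoly F G).natDegree ≤ finrank F V := by
    rw [← LinearMap.charpoly_natDegree G]
    exact natDegree_le_of_dvd (LinearMap.minpoly_dvd_charpoly G) G.charpoly_monic.ne_zero
  refine lt_of_le_of_ne hle fun hfull => ?_
  have hr0 : r ≠ 0 := fun h => hr (by rw [h, eval_zero])
  have hX1 : (X + 1 : F[X]) = X - Polynomial.C (-1) := by simp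
  have hXn : (X + 1 : F[X]) ≠ 0 := by rw [hX1]; exact X_sub_C_ne_zero _
  have hXd : (X + 1 : F[X]).natDegree = 1 := by rw [hX1, natDegree_X_sub_C]
  -- the kernel is a line
  set f : Module.End F V := G + 1 with hf
  have hker : finrank F (LinearMap.ker f) ≤ 1 := by
    by_contra hker
    have hW : ∀ x ∈ LinearMap.range f, G x ∈ LinearMap.range f := by
      rintro _ ⟨y, rfl⟩
      exact ⟨G y, by simp [hf]⟩
    set h : Module.End F (LinearMap.range f) := G.restrict hW with hh
    have hres : ∀ (P : F[X]) (w : LinearMap.range f), aeval G P (w : V) = ((aeval h P w : LinearMap.range f) : V) := by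
      intro P
      induction P using Polynomial.induction_on with
      | C a => intro w; simp [Module.algebraMap_end_apply]
      | add a b ha hb => intro w; simp [ha, hb]
      | monomial n a ih =>
        intro w
        have e := ih (h w)
        rw [show ((h w : LinearMap.range f) : V) = G (w : V) from rfl] at e
        simp only [map_mul, map_pow, aeval_X, aeval_C, pow_succ, Module.End.mul_apply] at e ⊢
        exact e
    have hzero : aeval G (h.charpoly * (X + 1)) = 0 := LinearMap.ext fun v => by
      rw [map_mul, Module.End.mul_apply, map_add, aeval_X, map_one]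
      change aeval G h.charpoly ((⟨f v, v, rfl⟩ : LinearMap.range f) : V) = _
      rw [hres, LinearMap.aeval_self_charpoly]
      simp
    have hd := natDegree_le_of_dvd (minpoly.dvd F G hzero) (mul_ne_zero h.charpoly_monic.ne_zero hXn)
    rw [hfull, natDegree_mul h.charpoly_monic.ne_zero hXn, hXd, LinearMap.charpoly_natDegree] at hd
    have := LinearMap.finrank_range_add_finrank_ker f
    omega
  -- the rank one map
  set P : F[X] := (X + 1) ^ (2 * k + 1) * r with hP
  have hP0 : P ≠ 0 := mul_ne_zero (pow_ne_zero _ hXn) hr0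
  set T := aeval G P with hT
  have hTne : T ≠ 0 := minpoly_cases G (R := X + 1) (by rw [hμ, hP]; ring) (by rw [hXd]; norm_num) hP0
  have hfT : f * T = 0 := by
    rw [hT, hf, show G + 1 = aeval G (X + 1 : F[X]) by simp, ← map_mul,
      show (X + 1) * P = minpoly F G by rw [hμ, hP]; ring, minpoly.aeval]
  have hGT : ∀ x, G (T x) = -T x := fun x => by
    have := congrArg (fun φ : Module.End F V => φ x) hfT
    simp only [Module.End.mul_apply, hf, LinearMap.add_apply, Module.End.one_apply, LinearMap.zero_apply] at this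
    exact eq_neg_of_add_eq_zero_left this
  -- the adjoint
  obtain ⟨-, cc, hcc, hrev⟩ := OrderBound.minpoly_data Q.polarBilin (fun w hw => hQ w fun u => by
    rw [polar_comm]; exact hw u) G (fun u v => polar_iso hg u v)
  have hX1rev : (X + 1 : F[X]).reverse = X + 1 := by
    rw [show (X + 1 : F[X]) = X + Polynomial.C 1 by simp, Polynomial.reverse, natDegree_X_add_C]
    ext i
    rw [Polynomial.coeff_reflect]
    rcases i with _ | _ | i <;>
      simp [show Polynomial.revAt 1 0 = 1 from rfl, show Polynomial.revAt 1 1 = 0 from rfl,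
        Polynomial.revAt_eq_self_of_lt, coeff_X, coeff_one]
  have hrrev : r.reverse = Polynomial.C cc * r := by
    have h1 := hrev
    rw [hμ, reverse_mul_of_domain, OrderBound.reverse_pow, hX1rev, mul_left_comm] at h1
    exact mul_left_cancel₀ (pow_ne_zero _ hXn) h1
  have hcc' : cc = (-1) ^ r.natDegree := by
    have h1 := OrderBound.aeval_reverse (A := F) (F := F) (a := -1) (b := -1) (by ring) (by ring) r
    rw [hrrev, map_mul, aeval_C, coe_aeval_eq_eval, Algebra.algebraMap_self, RingHom.id_apply] at h1
    exact mul_right_cancel₀ hr h1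
  have hPrev : P.reverse = Polynomial.C cc * P := by
    rw [hP, reverse_mul_of_domain, OrderBound.reverse_pow, hX1rev, hrrev]; ring
  have hnd : P.natDegree = 2 * k + 1 + r.natDegree := by
    rw [hP, natDegree_mul (pow_ne_zero _ hXn) hr0, natDegree_pow, hXd, mul_one]
  have hadj : ∀ x, aeval H P x = -T x := by
    intro x
    have h1 := OrderBound.aeval_reverse (F := F) hGH hHG P
    rw [hPrev, map_mul, aeval_C, ← hT, hnd] at h1
    set N := 2 * k + 1 + r.natDegree
    have hHn : ∀ (n : ℕ) x, (H ^ n) (T x) = (-1 : F) ^ n • T x := by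
      intro n
      induction n with
      | zero => intro x; simp
      | succ n ih =>
        intro x
        rw [pow_succ', Module.End.mul_apply, ih, map_smul]
        have : H (T x) = -T x := by
          have h3 := congrArg H (hGT x)
          rw [← Module.End.mul_apply, hHG, Module.End.one_apply, map_neg] at h3
          exact neg_eq_iff_eq_neg.1 h3.symm
        rw [this, pow_succ, mul_smul, neg_one_smul, smul_neg]
    have hinv : H ^ N * G ^ N = 1 := by rw [← (show Commute H G from hHG.trans hGH.symm).mul_pow, hHG, one_pow]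
    have h3 := congrArg (fun φ : Module.End F V => (H ^ N) (φ x)) h1
    simp only [Module.End.mul_apply, Module.algebraMap_end_apply, map_smul] at h3
    rw [hHn, ← Module.End.mul_apply, hinv, Module.End.one_apply, smul_smul, hcc', ← pow_add] at h3
    rw [← h3, show r.natDegree + N = 2 * (r.natDegree + k) + 1 by omega, pow_succ, pow_mul]
    simp
  have halt : ∀ x, polar Q (T x) x = 0 := fun x => by
    have := polar_aeval hg P x x
    rw [← hT, hadj, polar_neg_right, polar_comm Q x (T x)] at this
    refine (mul_eq_zero.1 (show (2 : F) * polar Q (T x) x = 0 from ?_)).resolve_left h2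
    linear_combination this
  obtain ⟨x₀, hx₀⟩ : ∃ x, T x ≠ 0 := by
    by_contra h
    push Not at h
    exact hTne (LinearMap.ext h)
  have hTker : ∀ x, T x ∈ LinearMap.ker f := fun x => by
    rw [LinearMap.mem_ker, ← Module.End.mul_apply, hfT]; rfl
  have hline : ∀ x, ∃ c : F, T x = c • T x₀ := fun x => by
    have hspan : Submodule.span F {T x₀} = LinearMap.ker f :=
      Submodule.eq_of_le_of_finrank_le ((Submodule.span_singleton_le_iff_mem _ _).2 (hTker x₀))
        (by rw [finrank_span_singleton hx₀]; exact hker)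
    obtain ⟨c, hc⟩ := Submodule.mem_span_singleton.1 (hspan ▸ hTker x : T x ∈ Submodule.span F {T x₀})
    exact ⟨c, hc.symm⟩
  refine hx₀ (hQ _ fun y => ?_)
  have e := halt (y + x₀)
  rw [map_add, polar_add_left, polar_add_right, polar_add_right, halt, halt] at e
  obtain ⟨c, hc⟩ := hline y
  have e0 : polar Q (T x₀) x₀ = 0 := halt x₀
  rw [hc, polar_smul_left, e0, smul_zero] at e
  simpa using e

/-- An isometry of the hyperbolic space with irreducible minimal polynomial of degree eight does not exist. -/
theorem no_octic [Fintype F] (hcount : Nat.card {x // Q x = 1} = (Fintype.card F ^ 4 - 1) * Fintype.card F ^ 3)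
    (h2 : (2 : F) ≠ 0) {g : V ≃ₗ[F] V} (hg : g ∈ Iso Q) (hi : Irreducible (minpoly F (g : Module.End F V)))
    (h8 : (minpoly F (g : Module.End F V)).natDegree = 8)
    (hdvd : minpoly F (g : Module.End F V) ∣ X ^ (Fintype.card F ^ 4 + 1) - 1) : False := by
  classical
  set G : Module.End F V := (g : Module.End F V) with hG
  set q := Fintype.card F
  haveI : Finite V := Module.finite_of_finite F
  haveI : Finite (V ≃ₗ[F] V) := Finite.of_injective (fun g => (g : V → V)) DFunLike.coe_injective
  have hpow : ∀ n, minpoly F G ∣ X ^ n - 1 ↔ g ^ n = 1 := fun n => by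
    constructor
    · rintro ⟨r, hr⟩
      have := congrArg (aeval G) hr
      rw [map_mul, minpoly.aeval, zero_mul, map_sub, map_pow, aeval_X, map_one, sub_eq_zero] at this
      exact LinearEquiv.ext fun x => by rw [← end_pow_apply, ← hG, this]; rfl
    · intro h
      refine minpoly.dvd F G ?_
      rw [map_sub, map_pow, aeval_X, map_one, sub_eq_zero]
      exact LinearMap.ext fun x => by rw [hG, end_pow_apply, h]; rfl
  have hfree : ∀ (n : ℕ) (z : V), (g ^ n) z = z → z ≠ 0 → g ^ n = 1 := fun n z hz hz0 => by
    by_contra hne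
    have hnd : ¬ minpoly F G ∣ X ^ n - 1 := fun h => hne ((hpow n).1 h)
    obtain ⟨s, t, hst⟩ := hi.coprime_iff_not_dvd.2 hnd
    have := congrArg (fun P => aeval G P z) hst
    simp only [map_add, map_mul, minpoly.aeval, mul_zero, zero_add, map_sub, map_pow, aeval_X, map_one,
      Module.End.mul_apply, LinearMap.sub_apply, Module.End.one_apply, hG, end_pow_apply, hz, sub_self,
      map_zero] at this
    exact hz0 this.symm
  let G₀ := Subgroup.zpowers g
  have hmem : ∀ h : G₀, (h : V ≃ₗ[F] V) ∈ Iso Q := fun h => Subgroup.zpowers_le.2 hg h.2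
  letI : MulAction G₀ {z // Q z = 1} :=
    { smul := fun h z => ⟨(h : V ≃ₗ[F] V) z.1, by rw [hmem h z.1]; exact z.2⟩
      one_smul := fun z => Subtype.ext rfl
      mul_smul := fun h h' z => Subtype.ext rfl }
  have hst : ∀ z : {z // Q z = 1}, MulAction.stabilizer G₀ z = ⊥ := fun z =>
    (Subgroup.eq_bot_iff_forall _).2 fun h hh => Subtype.ext (by
      obtain ⟨n, hn⟩ := (IsOfFinOrder.mem_powers_iff_mem_zpowers (isOfFinOrder_of_finite g)).2 h.2
      simp only at hn
      rw [← hn]
      refine hfree n z.1 ?_ fun h0 => one_ne_zero (z.2.symm.trans (by rw [h0, QuadraticMap.map_zero]))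
      rw [hn]
      exact congrArg Subtype.val hh)
  have h1 : orderOf g ∣ (q ^ 4 - 1) * q ^ 3 := by
    rw [← hcount, Nat.card_congr (MulAction.selfEquivOrbitsQuotientProd hst), Nat.card_prod, mul_comm,
      Nat.card_zpowers]
    exact dvd_mul_right _ _
  have h3 : orderOf g ∣ q ^ 4 + 1 := orderOf_dvd_of_pow_eq_one ((hpow _).1 hdvd)
  have hq : 1 ≤ q ^ 4 := Nat.one_le_pow _ _ Fintype.card_pos
  have hco : (q ^ 4 + 1).Coprime (q ^ 3) := by
    refine Nat.Coprime.pow_right _ ?_
    rw [Nat.coprime_comm, show q ^ 4 + 1 = 1 + q * q ^ 3 by ring]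
    simp
  have h4 := (hco.coprime_dvd_left h3).dvd_of_dvd_mul_right h1
  have h5 : orderOf g ∣ 2 := by
    have := Nat.dvd_sub h3 h4
    rwa [show q ^ 4 + 1 - (q ^ 4 - 1) = 2 by omega] at this
  have h6 := natDegree_le_of_dvd ((hpow 2).2 (orderOf_dvd_iff_pow_eq_one.1 h5))
    (X_pow_sub_C_ne_zero (by norm_num) (1 : F))
  rw [h8, ← C_1, natDegree_X_pow_sub_C] at h6
  omega

/-- A pair of quartic factors of an element of the derived group. -/
theorem quartic_pair [Fintype F] (hQ : PND Q) (h2 : (2 : F) ≠ 0) (hdim : finrank F V = 8) {g : V ≃ₗ[F] V}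
    (hg : Spn Q g 1) {f f' : F[X]} (hfm : f.Monic) (hfi : Irreducible f) (hf'i : Irreducible f') (hne : f' ≠ f)
    (hf'm : f'.Monic) (hd : f.natDegree = 4) (hd' : f'.natDegree = 4) {c : F} (hc : c ≠ 0)
    (hrev : f.reverse = Polynomial.C c * f') {c' : F} (hc' : c' ≠ 0) (hrev' : f'.reverse = Polynomial.C c' * f)
    (hμ : minpoly F (g : Module.End F V) = f * f') :
    f ∣ X ^ (Nat.lcm (Fintype.card F ^ 2 - 1) (Fintype.card F ^ 2 + 1)) - 1 := by
  classical
  set G : Module.End F V := (g : Module.End F V) with hG
  set H : Module.End F V := (g.symm : Module.End F V) with hH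
  obtain ⟨hGH, hHG⟩ := symm_mul g
  have hgi := hg.mem
  have hco : IsCoprime f f' := hfi.coprime_iff_not_dvd.2 fun h =>
    hne (eq_of_monic_of_associated hfm hf'm (hfi.associated_of_dvd hf'i h)).symm
  set U := LinearMap.ker (aeval G f) with hU
  set U' := LinearMap.ker (aeval G f') with hU'
  obtain ⟨s, t, hst⟩ := hco
  have hbot : U ⊓ U' = ⊥ := by
    rw [eq_bot_iff]
    rintro x ⟨hx, hx'⟩
    have := congrArg (fun P => aeval G P x) hst
    simp only [map_add, map_mul, LinearMap.add_apply, Module.End.mul_apply, LinearMap.mem_ker.1 hx,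
      LinearMap.mem_ker.1 hx', map_zero, add_zero, map_one, Module.End.one_apply] at this
    exact (Submodule.mem_bot F).2 this.symm
  have htop : U ⊔ U' = ⊤ := by
    refine eq_top_iff.2 fun x _ => ?_
    have := congrArg (fun P => aeval G P x) hst
    simp only [map_add, LinearMap.add_apply, map_one, Module.End.one_apply] at this
    rw [← this, add_comm]
    refine Submodule.add_mem_sup ?_ ?_
    · rw [hU, LinearMap.mem_ker, ← Module.End.mul_apply, ← map_mul,
        show f * (t * f') = t * minpoly F G by rw [hμ]; ring, map_mul, minpoly.aeval, mul_zero, LinearMap.zero_apply]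
    · rw [hU', LinearMap.mem_ker, ← Module.End.mul_apply, ← map_mul,
        show f' * (s * f) = s * minpoly F G by rw [hμ]; ring, map_mul, minpoly.aeval, mul_zero, LinearMap.zero_apply]
  -- the two kernels are totally isotropic
  have hiso : ∀ (a b : F[X]) (k : F), k ≠ 0 → a.reverse = Polynomial.C k * b →
      LinearMap.ker (aeval G a) ⊓ LinearMap.ker (aeval G b) = ⊥ →
      ∀ x ∈ LinearMap.ker (aeval G a), ∀ y ∈ LinearMap.ker (aeval G a), polar Q x y = 0 := by
    intro a b k hk hab hab0
    have hinj : ∀ y ∈ LinearMap.ker (aeval G a), aeval H a y = 0 → y = 0 := fun y hy h0 => by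
      have h1 := congrArg (fun φ : Module.End F V => φ y) (OrderBound.aeval_reverse (F := F) hGH hHG a)
      simp only [Module.End.mul_apply, hab, map_mul, aeval_C, Module.algebraMap_end_apply] at h1
      rw [show aeval (g.symm : Module.End F V) a y = 0 from h0, map_zero, smul_eq_zero] at h1
      exact (Submodule.mem_bot F).1 (hab0 ▸ ⟨hy, h1.resolve_left hk⟩)
    have hstab : ∀ y ∈ LinearMap.ker (aeval G a), aeval H a y ∈ LinearMap.ker (aeval G a) := fun y hy => by
      have hc0 : Commute (aeval G a) (aeval H a) := commute_aeval (hGH.trans hHG.symm) a a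
      rw [LinearMap.mem_ker, ← Module.End.mul_apply, hc0.eq, Module.End.mul_apply, LinearMap.mem_ker.1 hy, map_zero]
    intro x hx y hy
    let φ : Module.End F (LinearMap.ker (aeval G a)) := (aeval H a).restrict hstab
    have hφ : Function.Injective φ := LinearMap.ker_eq_bot.1 (LinearMap.ker_eq_bot'.2 fun z hz =>
      Subtype.ext (hinj z.1 z.2 (congrArg Subtype.val hz)))
    obtain ⟨z, hz⟩ := LinearMap.injective_iff_surjective.1 hφ ⟨y, hy⟩
    rw [show y = aeval H a (z : V) from (congrArg Subtype.val hz).symm, hH, ← polar_aeval hgi a x z, ← hG,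
      LinearMap.mem_ker.1 hx, polar_zero_left]
  have hUU : ∀ x ∈ U, ∀ y ∈ U, polar Q x y = 0 := hiso f f' c hc hrev hbot
  have hUU' : ∀ x ∈ U', ∀ y ∈ U', polar Q x y = 0 := hiso f' f c' hc' hrev' (by rw [inf_comm]; exact hbot)
  have hsum := Submodule.finrank_sup_add_finrank_inf_eq U U'
  rw [htop, hbot, finrank_top, finrank_bot, hdim, add_zero] at hsum
  have hsep : ∀ (W W' : Submodule F V), W ⊔ W' = ⊤ → (∀ x ∈ W, ∀ y ∈ W, polar Q x y = 0) →
      ∀ x ∈ W, (∀ y ∈ W', polar Q x y = 0) → x = 0 := fun W W' hW h x hx hy => hQ x fun z => by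
    obtain ⟨a, ha, b, hb, rfl⟩ := Submodule.mem_sup.1 (hW ▸ Submodule.mem_top : z ∈ W ⊔ W')
    rw [polar_add_right, h x hx a ha, hy b hb, add_zero]
  let θ : U' →ₗ[F] Module.Dual F U := (Q.polarBilin.compl₂ U.subtype).comp U'.subtype
  have hθ : ∀ y x, θ y x = polar Q (y : V) (x : V) := fun y x => rfl
  have hθi : Function.Injective θ := LinearMap.ker_eq_bot.1 (LinearMap.ker_eq_bot'.2 fun y hy => Subtype.ext
    (hsep U' U (by rw [sup_comm]; exact htop) hUU' y.1 y.2 fun x hx => by
      rw [← hθ y ⟨x, hx⟩, hy, LinearMap.zero_apply]))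
  let θ' : U →ₗ[F] Module.Dual F U' := (Q.polarBilin.compl₂ U'.subtype).comp U.subtype
  have hθ'i : Function.Injective θ' := LinearMap.ker_eq_bot.1 (LinearMap.ker_eq_bot'.2 fun x hx => Subtype.ext
    (hsep U U' htop hUU x.1 x.2 fun y hy => by
      have := congrArg (fun φ : Module.Dual F U' => φ ⟨y, hy⟩) hx
      simpa [θ'] using this))
  have hdU : finrank F U = 4 := by
    have a1 := LinearMap.finrank_le_finrank_of_injective hθi
    have a2 := LinearMap.finrank_le_finrank_of_injective hθ'i
    rw [Subspace.dual_finrank_eq] at a1 a2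
    omega
  let eb : Basis (Fin 4) F U := Module.finBasisOfFinrankEq F U hdU
  have hθs : Function.Surjective θ :=
    (LinearMap.injective_iff_surjective_of_finrank_eq_finrank (by rw [Subspace.dual_finrank_eq]; omega)).1 hθi
  choose fb hfb using fun i => hθs (eb.dualBasis i)
  have hef : ∀ i j, polar Q (eb i : V) (fb j : V) = if i = j then 1 else 0 := fun i j => by
    rw [polar_comm, ← hθ, hfb, Basis.dualBasis_apply_self]
  have hq0 : ∀ W : Submodule F V, (∀ x ∈ W, ∀ y ∈ W, polar Q x y = 0) → ∀ x ∈ W, Q x = 0 := fun W h x hx => by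
    have := h x hx x hx
    rw [polar_self_two] at this
    exact (mul_eq_zero.1 this).resolve_left h2
  have hF : HFam Q (fun i => (eb i : V)) fun i => (fb i : V) :=
    ⟨fun i => hq0 U hUU _ (eb i).2, fun i => hq0 U' hUU' _ (fb i).2, hef, fun i j => hUU _ (eb i).2 _ (eb j).2,
      fun i j => hUU' _ (fb i).2 _ (fb j).2⟩
  have hcomm : ∀ P : F[X], ∀ x, aeval G P (G x) = G (aeval G P x) := fun P x => by
    rw [← Module.End.mul_apply, ← Module.End.mul_apply]
    conv_lhs => arg 1; arg 2; rw [← aeval_X (R := F) G]
    conv_rhs => arg 1; arg 1; rw [← aeval_X (R := F) G]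
    rw [← map_mul, ← map_mul, mul_comm]
  have hstU : ∀ P : F[X], ∀ x ∈ LinearMap.ker (aeval G P), G x ∈ LinearMap.ker (aeval G P) := fun P x hx => by
    rw [LinearMap.mem_ker, hcomm, LinearMap.mem_ker.1 hx, map_zero]
  let gU : Module.End F U := G.restrict (hstU f)
  let A := LinearMap.toMatrix eb eb gU
  have hdetA : A.det = LinearMap.det gU := LinearMap.det_toMatrix eb gU
  have hone : ∀ i, G (eb i : V) = ∑ j, A j i • (eb j : V) := fun i => by
    have h1 : gU (eb i) = ∑ j, A j i • eb j := by
      conv_lhs => rw [← eb.sum_repr (gU (eb i))]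
      exact Finset.sum_congr rfl fun j _ => by simp only [A, LinearMap.toMatrix_apply]
    have := congrArg Subtype.val h1
    simpa [gU] using this
  have hgne : LinearMap.det gU ≠ 0 := by
    intro h0
    obtain ⟨x, hx, hx0⟩ := (Submodule.ne_bot_iff _).1 (LinearMap.bot_lt_ker_of_det_eq_zero h0).ne'
    exact hx0 (Subtype.ext (g.injective ((congrArg Subtype.val (LinearMap.mem_ker.1 hx)).trans (map_zero g).symm)))
  have hA0 : A.det ≠ 0 := hdetA ▸ hgne
  obtain ⟨ws, w1, w2, w3, w4⟩ := hasWord_of_det hQ (two_ne h2) hF A hA0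
  have hact : Acts Q (fun i => (eb i : V)) (fun i => (fb i : V)) A G := by
    refine ⟨hone, fun i => ?_, fun x hx hy => ?_⟩
    · have hmemU' : G (fb i : V) - ∑ j, A⁻¹ i j • (fb j : V) ∈ U' :=
        U'.sub_mem (hstU f' _ (fb i).2) (U'.sum_mem fun j _ => U'.smul_mem _ (fb j).2)
      refine sub_eq_zero.1 (hsep U' U (by rw [sup_comm]; exact htop) hUU' _ hmemU' fun y hy => ?_)
      have key : ∀ k, polar Q (G (fb i : V) - ∑ j, A⁻¹ i j • (fb j : V)) (G (eb k : V)) = 0 := fun k => by
        rw [polar_sub_left, hG, LinearEquiv.coe_coe, polar_iso hgi, polar_comm, hef]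
        simp only [← LinearEquiv.coe_coe, ← hG, hone]
        have hsum : polar Q (∑ j, A⁻¹ i j • (fb j : V)) (∑ l, A l k • (eb l : V)) = ∑ j, A⁻¹ i j * A j k := by
          rw [← polarBilin_apply_apply (Q := Q), map_sum (Q.polarBilin), LinearMap.sum_apply]
          refine Finset.sum_congr rfl fun j _ => ?_
          rw [map_smul, LinearMap.smul_apply, smul_eq_mul, map_sum]
          congr 1
          simp [fun l => (polar_comm Q (fb j : V) (eb l : V)).trans (hef l j)]
        rw [hsum, ← Matrix.mul_apply, Matrix.nonsing_inv_mul A (isUnit_iff_ne_zero.2 hA0), Matrix.one_apply]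
        simp [eq_comm]
      obtain ⟨z, rfl⟩ : ∃ z : U, (G (z : V)) = y := by
        obtain ⟨z, hz⟩ := (LinearMap.injective_iff_surjective.1 (show Function.Injective gU from
          fun a b h => Subtype.ext (g.injective (congrArg Subtype.val h)))) ⟨y, hy⟩
        exact ⟨z, congrArg Subtype.val hz⟩
      rw [← eb.sum_repr z]
      simp only [Submodule.coe_sum, Submodule.coe_smul, map_sum, map_smul]
      rw [← polarBilin_apply_apply (Q := Q), map_sum]
      simp only [map_smul, polarBilin_apply_apply, key, smul_zero, Finset.sum_const_zero]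
    · have : x = 0 := by
        refine hQ x fun y => ?_
        obtain ⟨u, hu, u', hu', rfl⟩ := Submodule.mem_sup.1 (htop ▸ Submodule.mem_top : y ∈ U ⊔ U')
        have hz : ∀ (z : U), polar Q x (z : V) = 0 := fun z => by
          rw [← eb.sum_repr z]
          simp only [Submodule.coe_sum, Submodule.coe_smul]
          rw [← polarBilin_apply_apply (Q := Q), map_sum]
          simp [fun i => (polar_comm Q x (eb i : V)).trans (hx i)]
        obtain ⟨w, hw⟩ : ∃ w : U', (w : V) = u' := ⟨⟨u', hu'⟩, rfl⟩
        have hspan : w ∈ Submodule.span F (Set.range fb) := by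
          rw [(eb.dualBasis.linearIndependent |> fun h => LinearIndependent.span_eq_top_of_card_eq_finrank
            (b := fb) (LinearIndependent.of_comp θ (by rwa [show θ ∘ fb = eb.dualBasis from funext hfb]))
            (by rw [Fintype.card_fin]; omega))]
          trivial
        obtain ⟨co, hco'⟩ := (Submodule.mem_span_range_iff_exists_fun F).1 hspan
        rw [polar_add_right, hz ⟨u, hu⟩, ← hw, ← hco', zero_add]
        simp only [Submodule.coe_sum, Submodule.coe_smul]
        rw [← polarBilin_apply_apply (Q := Q), map_sum]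
        simp [fun i => (polar_comm Q x (fb i : V)).trans (hy i)]
      rw [this, map_zero]
  have hgw : (prodRf Q ws).1 = g := LinearEquiv.ext fun x => (hact.unique hF w4 x).symm
  have hdetsq : IsSquare A.det := by
    have hspn : Spn Q g A.det := ⟨ws, w1, w2, w3, hgw⟩
    simpa using hspn.unique hQ hg
  -- the determinant is the constant coefficient
  have hcp : gU.charpoly = f := by
    have hz : aeval gU f = 0 := LinearMap.ext fun z => Subtype.ext (by
      have hres : ∀ (P : F[X]) (w : U), ((aeval gU P w : U) : V) = aeval G P (w : V) := by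
        intro P
        induction P using Polynomial.induction_on with
        | C a => intro w; simp [Module.algebraMap_end_apply]
        | add a b ha hb => intro w; simp [ha, hb]
        | monomial n a ih =>
          intro w
          have e := ih (gU w)
          simp only [map_mul, map_pow, aeval_X, aeval_C, pow_succ, Module.End.mul_apply] at e ⊢
          exact e
      rw [hres]
      exact LinearMap.mem_ker.1 z.2)
    haveI : Nontrivial U := Module.nontrivial_of_finrank_pos (R := F) (by omega)
    have hm : minpoly F gU = f := (minpoly.eq_of_irreducible_of_monic hfi hz hfm).symm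
    exact (eq_of_monic_of_dvd_of_natDegree_le hfm gU.charpoly_monic (hm ▸ LinearMap.minpoly_dvd_charpoly gU)
      (by rw [LinearMap.charpoly_natDegree, hdU, hd]))
  have hf0 : IsSquare (f.coeff 0) := by
    have := LinearMap.det_eq_sign_charpoly_coeff gU
    rw [hdU, hcp, show ((-1 : F) ^ 4) = 1 by norm_num, one_mul] at this
    rwa [← this, ← hdetA]
  have hf00 : f.coeff 0 ≠ 0 := fun h => by
    have h1 := Polynomial.X_dvd_iff.2 h
    have := natDegree_eq_of_degree_eq (degree_eq_degree_of_associated
      ((irreducible_X (R := F)).associated_of_dvd hfi h1))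
    rw [natDegree_X, hd] at this
    omega
  -- in the splitting field
  haveI : Fact (Irreducible f) := ⟨hfi⟩
  haveI : Module.Finite F (AdjoinRoot f) := (AdjoinRoot.powerBasis hfi.ne_zero).finite
  haveI : Finite (AdjoinRoot f) := Module.finite_of_finite F
  letI := Fintype.ofFinite (AdjoinRoot f)
  set q := Fintype.card F with hq
  have hN : Algebra.norm F (AdjoinRoot.root f) = f.coeff 0 := by
    have h1 := Algebra.PowerBasis.norm_gen_eq_coeff_zero_minpoly (AdjoinRoot.powerBasis hfi.ne_zero)
    rw [AdjoinRoot.powerBasis_gen, AdjoinRoot.powerBasis_dim, hd, AdjoinRoot.minpoly_root hfi.ne_zero,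
      hfm.leadingCoeff, inv_one, Polynomial.C_1, mul_one] at h1
    norm_num at h1
    exact h1
  obtain ⟨rt, hrt⟩ := hf0
  have hrt0 : rt ≠ 0 := fun h => hf00 (by rw [hrt, h, mul_zero])
  have hpw := FiniteField.algebraMap_norm_eq_pow (K := F) (K' := AdjoinRoot f) (x := AdjoinRoot.root f)
  rw [hN, hrt, map_mul, Module.natCard_eq_pow_finrank (K := F) (V := AdjoinRoot f), Nat.card_eq_fintype_card, (AdjoinRoot.powerBasis hfi.ne_zero).finrank, AdjoinRoot.powerBasis_dim, hd] at hpw
  rw [← AdjoinRoot.mk_eq_zero, map_sub, map_pow, map_one, AdjoinRoot.mk_X, sub_eq_zero]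
  have hodd : Odd q := Nat.odd_iff.2 (FiniteField.odd_card_of_char_ne_two fun h => h2 (by
    haveI := ringChar.of_eq h; exact CharTwo.two_eq_zero))
  obtain ⟨k, hk⟩ := hodd
  have hexp : Nat.lcm (q ^ 2 - 1) (q ^ 2 + 1) = (q ^ 4 - 1) / (q - 1) * k := by
    have hq1 : 1 ≤ q ^ 2 := Nat.one_le_pow _ _ (by omega)
    have h4 : q ^ 4 - 1 = (q ^ 2 - 1) * (q ^ 2 + 1) := by
      rw [mul_comm, ← Nat.sq_sub_sq, ← pow_mul, one_pow]
    have hgcd : Nat.gcd (q ^ 2 - 1) (q ^ 2 + 1) = 2 := by
      obtain ⟨t, ht⟩ : Odd (q ^ 2) := Odd.pow ⟨k, hk⟩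
      rw [show q ^ 2 + 1 = 2 + (q ^ 2 - 1) by omega, Nat.gcd_add_self_right]
      exact Nat.gcd_eq_right ⟨t, by omega⟩
    have hdd : q - 1 ∣ q ^ 4 - 1 := Nat.sub_one_dvd_pow_sub_one _ _
    obtain ⟨e, he⟩ := hdd
    refine Nat.eq_of_mul_eq_mul_left (show 0 < 2 by norm_num) ?_
    have hl := Nat.gcd_mul_lcm (q ^ 2 - 1) (q ^ 2 + 1)
    rw [hgcd, ← h4] at hl
    rw [hl]
    rw [he, Nat.mul_div_cancel_left _ (by have := Fintype.one_lt_card (α := F); omega), show q - 1 = 2 * k by omega]
    ring
  rw [hexp, pow_mul, ← hpw, ← _root_.sq, ← pow_mul, show 2 * k = q - 1 by omega, ← map_pow,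
    FiniteField.pow_card_sub_one_eq_one rt hrt0, map_one]

end Cfsg.Agent.Lie.OrthNine
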