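import Cfsg.Agent.Lib.Lie.OrthNine.Main

/-!
Transport of the result to the standard matrix groups.
-/

set_option autoImplicit false
set_option linter.unusedSectionVars false
set_option linter.style.haveILetI false

namespace Cfsg.Agent.Lie.OrthNine

open Module QuadraticMap Matrix Cfsg.Agent.Classical Cfsg.Agent.Classical.OCount Cfsg.Agent.Classical.ORefl
  Cfsg.Agent.Classical.OOmega Cfsg.Agent.Small Cfsg.Agent.Small.Orth Cfsg.Agent.Lie.SpEight

universe u

variable {F : Type u} [Field F] [Fintype F] {a b : F}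

/-- A similarity from the standard nine-dimensional form. -/
theorem exists_sim_odd (h2 : (2 : F) ≠ 0)
    (hab : ∀ z₁ z₂ : F, z₁ ^ 2 + a * z₁ * z₂ + b * z₂ ^ 2 = 0 → z₁ = 0 ∧ z₂ = 0) :
    ∃ (c : F) (L : (Unit ⊕ (Fin 4 ⊕ Fin 4) → F) ≃ₗ[F] V9 F), c ≠ 0 ∧
      ∀ x, nineQ a b (L x) = c * Cfsg.quadFormOdd 4 F x := by
  classical
  obtain ⟨β, hc, h1, hq, hef, hee⟩ := QuadBasis.odd_basis (nineQ a b) (m := 4)
    (by rw [Module.finrank_prod, finrank_ell, Module.finrank_self]) (QuadModels.nondegenerate (pnd_nine h2 hab))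
  set c := nineQ a b (β (Sum.inl ())) with hcdef
  let sc : Unit ⊕ (Fin 4 ⊕ Fin 4) → Fˣ :=
    Sum.elim (fun _ => 1) (Sum.elim (fun _ => 1) fun _ => Units.mk0 c hc)
  let β' := β.unitsSMul sc
  refine ⟨c, β'.equivFun.symm, hc, fun x => ?_⟩
  have hF : QuadBasis.Frame (nineQ a b) (⊤ : Submodule F (V9 F)) 4 (fun i => β (.inr (.inl i)))
      fun i => β (.inr (.inr i)) :=
    ⟨fun _ => trivial, fun _ => trivial, fun i => (hq i).1, fun i => (hq i).2, hef, fun i j => (hee i j).1,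
      fun i j => (hee i j).2⟩
  have key := QuadBasis.frame_value (nineQ a b) hF (κ := Unit) (fun _ => β (.inl ()))
    (fun _ i => ⟨by rw [polar_comm]; exact (h1 i).1, by rw [polar_comm]; exact (h1 i).2⟩)
    (fun i => x (.inr (.inl i))) (fun i => x (.inr (.inr i)) * c) fun _ => x (.inl ())
  simp only [Finset.univ_unique, Finset.sum_singleton, PUnit.default_eq_unit] at key
  rw [QuadraticMap.map_smul, smul_eq_mul, ← hcdef] at key
  have hsum : β'.equivFun.symm x =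
      ∑ i, (x (.inr (.inl i)) • β (.inr (.inl i)) + (x (.inr (.inr i)) * c) • β (.inr (.inr i))) +
        x (.inl ()) • β (.inl ()) := by
    rw [Module.Basis.equivFun_symm_apply, Fintype.sum_sum_type, Fintype.sum_sum_type, Finset.sum_add_distrib,
      add_comm]
    simp [β', sc, Module.Basis.unitsSMul_apply, Units.smul_def, smul_smul]
  rw [hsum, key, Cfsg.quadFormOdd, mul_add, Finset.mul_sum, add_comm (c * _)]
  exact congrArg₂ (· + ·) (Finset.sum_congr rfl fun i _ => by ring) (by ring)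

/-- Orders in a derived group, through words. -/
theorem range_omega {ι : Type} [Fintype ι] [DecidableEq ι] {Q : QuadraticForm F (ι → F)} {q : (ι → F) → F}
    (hq : ⇑Q = q) (hQ : PND Q) (h2 : (2 : F) ≠ 0) (n : ℕ) :
    (∃ g : ↥(Cfsg.Omega F q), orderOf g = n) ↔ ∃ g, Spn Q g 1 ∧ orderOf g = n := by
  subst hq
  constructor
  · rintro ⟨g, rfl⟩
    have hm := g.2
    simp only [omega_eq_map] at hm
    obtain ⟨y, hy, hye⟩ := hm
    refine ⟨y.1, (spn_iff hQ h2).2 ⟨y.2, hy⟩, ?_⟩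
    rw [Subgroup.orderOf_coe, ← (toMat Q).orderOf_eq y, show toMat Q y = g.1 from hye, Subgroup.orderOf_coe]
  · rintro ⟨g, hg, rfl⟩
    obtain ⟨h, hc⟩ := (spn_iff hQ h2).1 hg
    refine ⟨⟨toMat Q ⟨g, h⟩, by rw [omega_eq_map]; exact ⟨_, hc, rfl⟩⟩, ?_⟩
    rw [Subgroup.orderOf_mk, MulEquiv.orderOf_eq, Subgroup.orderOf_mk]

/-- The centre of the derived group of the standard odd-dimensional form is trivial. -/
theorem range_pomega_odd (h2 : (2 : F) ≠ 0) (n : ℕ) :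
    n ∈ Set.range (orderOf : Cfsg.POmega F (Cfsg.quadFormOdd 4 F) → ℕ) ↔
      ∃ g, Spn (formOf 4 (Equiv.sumComm Unit (Fin 4 ⊕ Fin 4)) (lineForm F)) g 1 ∧ orderOf g = n := by
  have hP : PND (lineForm F) := pnd_line h2
  set Q := formOf 4 (Equiv.sumComm Unit (Fin 4 ⊕ Fin 4)) (lineForm F) with hQdef
  have hQ : PND Q := formOf_pnd hP
  have hq : ⇑Q = Cfsg.quadFormOdd 4 F := coe_odd 4
  have hz := card_center_standard (e := Equiv.sumComm Unit (Fin 4 ⊕ Fin 4)) hP (by norm_num) (by simp)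
  rw [if_neg] at hz
  · have e : ↥(commutator ↥(Iso Q)) ≃* ↥(Cfsg.Omega F ⇑Q) :=
      ((commutator ↥(Iso Q)).equivMapOfInjective _ (toMat Q).injective).trans
        (MulEquiv.subgroupCongr (omega_eq_map (Q := Q)).symm)
    rw [← range_omega hq hQ h2, ← hq]
    have hbot : Subgroup.center ↥(Cfsg.Omega F ⇑Q) = ⊥ := by
      rw [← Subgroup.card_eq_one, ← Nat.card_congr (Subgroup.centerCongr e).toEquiv]
      exact hz
    have hinj : Function.Injective (QuotientGroup.mk' (Subgroup.center ↥(Cfsg.Omega F ⇑Q))) := by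
      rw [← MonoidHom.ker_eq_bot_iff, QuotientGroup.ker_mk']; exact hbot
    constructor
    · rintro ⟨x, rfl⟩
      obtain ⟨g, rfl⟩ := QuotientGroup.mk'_surjective _ x
      exact ⟨g, (orderOf_injective _ hinj g).symm⟩
    · rintro ⟨g, rfl⟩
      exact ⟨QuotientGroup.mk' _ g, orderOf_injective _ hinj g⟩
  · rintro ⟨hn, -⟩
    have hs : Spn Q (negI Q).1 1 := (spn_iff hQ h2).2 ⟨(negI Q).2, hn⟩
    obtain ⟨vs, h1, he, -, hvs⟩ := hs
    obtain ⟨k, hk⟩ := (even_rank_iff hQ vs h1).2 he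
    rw [hvs] at hk
    have hr : LinearMap.range (((negI Q).1 : Module.End F (Unit ⊕ (Fin 4 ⊕ Fin 4) → F)) - 1) = ⊤ := by
      refine LinearMap.range_eq_top.2 fun v => ⟨(-(2 : F)⁻¹) • v, ?_⟩
      rw [LinearMap.sub_apply, LinearEquiv.coe_coe, negI_apply, Module.End.one_apply]
      match_scalars
      field_simp
      ring
    rw [hr, finrank_top, Module.finrank_fintype_fun_eq_card] at hk
    simp at hk
    omega

/-- A group injecting into permutations as an affine group has the orders of affine isometries. -/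
theorem range_affine {ι : Type} [Fintype ι] [DecidableEq ι] {Q : QuadraticForm F (ι → F)} {q : (ι → F) → F}
    (hq : ⇑Q = q) (hQ : PND Q) (h2 : (2 : F) ≠ 0)
    (φ : ↥(Cfsg.Omega F q) →* MulAut (Multiplicative (ι → F)))
    (hφ : ∀ g v, Multiplicative.toAdd (φ g (Multiplicative.ofAdd v)) = (g.1.1.1 : Matrix ι ι F) *ᵥ v) (n : ℕ) :
    n ∈ Set.range (orderOf : Multiplicative (ι → F) ⋊[φ] ↥(Cfsg.Omega F q) → ℕ) ↔
      ∃ g v, Spn Q g 1 ∧ orderOf (aff g v) = n := by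
  subst hq
  let π : ↥(Cfsg.Omega F ⇑Q) →* ((ι → F) ≃ₗ[F] (ι → F)) :=
    ((Iso Q).subtype.comp (toMat Q).symm.toMonoidHom).comp (Cfsg.Omega F ⇑Q).subtype
  have hπ : ∀ g v, π g v = (g.1.1.1 : Matrix ι ι F) *ᵥ v := fun g v => by
    conv_rhs => rw [← (toMat Q).apply_symm_apply g.1, toMat_apply]
    rfl
  let ψ : Multiplicative (ι → F) ⋊[φ] ↥(Cfsg.Omega F ⇑Q) →* Equiv.Perm (ι → F) :=
    MonoidHom.mk' (fun x => aff (π x.right) (Multiplicative.toAdd x.left)) fun x y => by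
      rw [SemidirectProduct.mul_right, SemidirectProduct.mul_left, toAdd_mul, map_mul, aff_mul, hπ, ← hφ,
        ofAdd_toAdd, add_comm]
  have hπi : Function.Injective π :=
    (Subtype.val_injective.comp (toMat Q).symm.injective).comp Subtype.val_injective
  have hψ : Function.Injective ψ := by
    intro x y h
    have h0 := congrArg (fun f : Equiv.Perm (ι → F) => f 0) h
    simp only [ψ, MonoidHom.mk'_apply, aff_apply, map_zero, zero_add] at h0
    refine SemidirectProduct.ext (Multiplicative.toAdd.injective h0) (hπi (LinearEquiv.ext fun v => ?_))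
    have := congrArg (fun f : Equiv.Perm (ι → F) => f v) h
    simp only [ψ, MonoidHom.mk'_apply, aff_apply, h0] at this
    exact add_right_cancel this
  constructor
  · rintro ⟨x, rfl⟩
    refine ⟨π x.right, Multiplicative.toAdd x.left, (spn_iff hQ h2).2 ⟨((toMat Q).symm x.right.1).2, ?_⟩,
      orderOf_injective ψ hψ x⟩
    have hm := x.right.2
    simp only [omega_eq_map] at hm
    obtain ⟨y, hy, hye⟩ := hm
    change (toMat Q).symm x.right.1 ∈ commutator _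
    rw [← hye]
    exact (show (toMat Q).symm (toMat Q y) ∈ commutator _ by rwa [MulEquiv.symm_apply_apply])
  · rintro ⟨g, v, hg, rfl⟩
    obtain ⟨h, hc⟩ := (spn_iff hQ h2).1 hg
    let g' : ↥(Cfsg.Omega F ⇑Q) := ⟨toMat Q ⟨g, h⟩, by rw [omega_eq_map]; exact ⟨_, hc, rfl⟩⟩
    refine ⟨⟨Multiplicative.ofAdd v, g'⟩, (orderOf_injective ψ hψ _).symm.trans ?_⟩
    have : π g' = g := congrArg Subtype.val ((toMat Q).symm_apply_apply ⟨g, h⟩)
    simp only [ψ, MonoidHom.mk'_apply, this, toAdd_ofAdd]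

/-- The isospectrality. -/
theorem isospectral (h2 : (2 : F) ≠ 0)
    (hab : ∀ z₁ z₂ : F, z₁ ^ 2 + a * z₁ * z₂ + b * z₂ ^ 2 = 0 → z₁ = 0 ∧ z₂ = 0)
    (φ : ↥(Cfsg.Omega F (Cfsg.quadFormMinus 3 F a b)) →* MulAut (Multiplicative ((Fin 3 ⊕ Fin 3) ⊕ Fin 2 → F)))
    (hφ : ∀ g v, Multiplicative.toAdd (φ g (Multiplicative.ofAdd v)) =
      (g.1.1.1 : Matrix ((Fin 3 ⊕ Fin 3) ⊕ Fin 2) ((Fin 3 ⊕ Fin 3) ⊕ Fin 2) F) *ᵥ v) :
    Set.range (orderOf : Cfsg.POmega F (Cfsg.quadFormOdd 4 F) → ℕ) =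
      Set.range (orderOf : Multiplicative ((Fin 3 ⊕ Fin 3) ⊕ Fin 2 → F) ⋊[φ]
        ↥(Cfsg.Omega F (Cfsg.quadFormMinus 3 F a b)) → ℕ) := by
  ext n
  have hq : ⇑(formOf 3 (Equiv.refl ((Fin 3 ⊕ Fin 3) ⊕ Fin 2)) (planeForm a b)) = Cfsg.quadFormMinus 3 F a b :=
    coe_minus 3 a b
  rw [range_pomega_odd h2, range_affine hq (formOf_pnd (pnd_plane hab)) h2 φ hφ]
  obtain ⟨c, L, hc, hL⟩ := exists_sim_odd h2 hab
  obtain ⟨M, hM⟩ := sim_minus (F := F) 3 a b
  have hL' : ∀ x, nineQ a b (L x) = c * formOf 4 (Equiv.sumComm Unit (Fin 4 ⊕ Fin 4)) (lineForm F) x := fun x => by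
    rw [hL, coe_odd]
  have hLs : ∀ x, formOf 4 (Equiv.sumComm Unit (Fin 4 ⊕ Fin 4)) (lineForm F) (L.symm x) = c⁻¹ * nineQ a b x :=
    fun x => by
      have := hL' (L.symm x)
      rw [L.apply_symm_apply] at this
      rw [this, inv_mul_cancel_left₀ hc]
  have hM' : ∀ x, ellQ 3 a b (M x) = 1 * formOf 3 (Equiv.refl ((Fin 3 ⊕ Fin 3) ⊕ Fin 2)) (planeForm a b) x :=
    fun x => by rw [one_mul, hq, coe_ellQ, hM]
  have hMs : ∀ x, formOf 3 (Equiv.refl ((Fin 3 ⊕ Fin 3) ⊕ Fin 2)) (planeForm a b) (M.symm x) = 1 * ellQ 3 a b x :=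
    fun x => by rw [one_mul, hq, coe_ellQ, ← hM, M.apply_symm_apply]
  constructor
  · rintro ⟨g, hg, rfl⟩
    obtain ⟨h, v, hh, ho⟩ := (orders_eq h2 hab _).1
      ⟨conjL L g, hg.sim L hc hL', orderOf_injective _ (conjL_injective L) g⟩
    exact ⟨conjL M.symm h, M.symm v, hh.sim M.symm one_ne_zero hMs, (orderOf_aff_conj M.symm h v).trans ho⟩
  · rintro ⟨g, v, hg, rfl⟩
    obtain ⟨h, hh, ho⟩ := (orders_eq h2 hab _).2
      ⟨conjL M g, M v, hg.sim M one_ne_zero hM', orderOf_aff_conj M g v⟩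
    exact ⟨conjL L.symm h, hh.sim L.symm (inv_ne_zero hc) hLs,
      (orderOf_injective _ (conjL_injective L.symm) h).trans ho⟩

end Cfsg.Agent.Lie.OrthNine
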