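import Cfsg.Agent.Lib.Lie.OrthNine.Bound
import Cfsg.Agent.Lib.Classical.OrthPOmega

/-!
The simple orthogonal group in dimension nine over a field of odd order and the natural split extension by the
simple group of the elliptic space of dimension eight have the same element orders.
-/

set_option autoImplicit false
set_option linter.unusedSectionVars false
set_option linter.style.haveILetI false

namespace Cfsg.Agent.Lie.OrthNine

open Module QuadraticMap Cfsg.Agent.Classical Cfsg.Agent.Classical.OCount Cfsg.Agent.Classical.ORefl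
  Cfsg.Agent.Classical.OOmega Cfsg.Agent.Small Cfsg.Agent.Small.Orth Cfsg.Agent.Lie.SpEight

universe u

variable {F : Type u} [Field F] [Fintype F] {V : Type u} [AddCommGroup V] [Module F V] [FiniteDimensional F V]
  {Q : QuadraticForm F V}

variable (F) in
/-- The line. -/
noncomputable def lineQ (c : F) : QuadraticForm F F := c • QuadraticMap.sq

theorem lineQ_apply (c x : F) : lineQ F c x = c * (x * x) := rfl

theorem pnd_lineQ (h2 : (2 : F) ≠ 0) {c : F} (hc : c ≠ 0) : PND (lineQ F c) := fun x hx => by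
  have h := hx x
  rw [QuadraticMap.polar_self, lineQ_apply, nsmul_eq_mul, Nat.cast_ofNat] at h
  exact mul_self_eq_zero.1 ((mul_eq_zero.1 ((mul_eq_zero.1 h).resolve_left h2)).resolve_left hc)

/-- An isometry of a sum with a line fixing the line. -/
theorem exists_of_fix (h2 : (2 : F) ≠ 0) {c : F} (hc : c ≠ 0) {g : (V × F) ≃ₗ[F] V × F}
    (hg : g ∈ Iso (Q.prod (lineQ F c))) (h1 : g (0, 1) = (0, 1)) :
    ∃ g' : V ≃ₗ[F] V, g' ∈ Iso Q ∧ g = pairHom (g', 1) := by
  have hsnd : ∀ x : V, (g (x, 0)).2 = 0 := fun x => by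
    have h := polar_iso hg (x, 0) (0, 1)
    rw [h1] at h
    simp only [polar, QuadraticMap.prod_apply, Prod.fst_add, Prod.snd_add, lineQ_apply, add_zero,
      QuadraticMap.map_zero] at h
    refine (mul_eq_zero.1 (show 2 * c * (g (x, 0)).2 = 0 by linear_combination h)).resolve_left (mul_ne_zero h2 hc)
  let f : V →ₗ[F] V := (LinearMap.fst F V F).comp ((g : V × F →ₗ[F] V × F).comp (LinearMap.inl F V F))
  have hf : ∀ x, g (x, 0) = (f x, 0) := fun x => Prod.ext rfl (hsnd x)
  have hinj : Function.Injective f := fun x y h => by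
    have := g.injective ((hf x).trans ((congrArg (fun z => (z, (0 : F))) h).trans (hf y).symm))
    exact congrArg Prod.fst this
  refine ⟨LinearEquiv.ofInjectiveEndo f hinj, fun x => ?_, LinearEquiv.ext fun ⟨x, t⟩ => ?_⟩
  · have := hg (x, 0)
    rw [hf] at this
    simpa [lineQ_apply] using this
  · rw [pairHom_apply, LinearEquiv.coe_one, id]
    have : ((x, t) : V × F) = (x, 0) + t • (0, 1) := by simp
    conv_lhs => rw [this, map_add, map_smul, h1, hf]
    simp

theorem finrank_fixSp_pair (g : V ≃ₗ[F] V) :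
    finrank F (fixSp (pairHom (g, (1 : F ≃ₗ[F] F)))) = finrank F (fixSp g) + 1 := by
  let e : fixSp (pairHom (g, (1 : F ≃ₗ[F] F))) ≃ₗ[F] fixSp g × F :=
    { toFun := fun x => (⟨x.1.1, mem_fixSp.2 (congrArg Prod.fst (mem_fixSp.1 x.2))⟩, x.1.2)
      invFun := fun p => ⟨(p.1.1, p.2), mem_fixSp.2 (Prod.ext (mem_fixSp.1 p.1.2) rfl)⟩
      map_add' := fun x y => rfl
      map_smul' := fun c x => rfl
      left_inv := fun x => rfl
      right_inv := fun p => rfl }
  rw [e.finrank_eq, Module.finrank_prod, Module.finrank_self]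

/-- The moved space of an element of the derived group is even. -/
theorem even_moved (hQ : PND Q) {g : V ≃ₗ[F] V} (hg : Spn Q g 1) :
    ∃ k, finrank F (fixSp g) + 2 * k = finrank F V := by
  obtain ⟨vs, h1, he, -, hvs⟩ := hg
  obtain ⟨k, hk⟩ := (even_rank_iff hQ vs h1).2 he
  refine ⟨k, ?_⟩
  have := LinearMap.finrank_range_add_finrank_ker ((g : Module.End F V) - 1)
  rw [hvs] at hk
  rw [fixSp]
  omega

/-- The eight-dimensional space. -/
abbrev V8 (F : Type u) : Type u := ((Fin 3 → F) × (Fin 3 → F)) × (F × F)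

/-- The nine-dimensional space. -/
abbrev V9 (F : Type u) : Type u := V8 F × F

variable {a b : F}

variable (a b) in
/-- The nine-dimensional form. -/
noncomputable abbrev nineQ : QuadraticForm F (V9 F) :=
  (ellQ 3 a b).prod (lineQ F 1)

theorem exists_value_on (h2 : (2 : F) ≠ 0) {W : Submodule F V} (hW : QuadBasis.Nondeg Q W) (hn : 2 ≤ finrank F W) :
    ∃ e ∈ W, Q e = 1 := by
  obtain ⟨w, hw⟩ := exists_value h2 (Q := Q.comp W.subtype) (QuadModels.pnd_res (Q := Q) hW) hn 1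
  exact ⟨w.1, w.2, hw⟩

theorem pnd_nine (h2 : (2 : F) ≠ 0)
    (hab : ∀ z₁ z₂ : F, z₁ ^ 2 + a * z₁ * z₂ + b * z₂ ^ 2 = 0 → z₁ = 0 ∧ z₂ = 0) : PND (nineQ a b) :=
  prod_pnd (pnd_ellQ h2 3 hab) (pnd_lineQ h2 one_ne_zero)

/-- An affine isometry of the eight-dimensional space gives an isometry in dimension nine. -/
theorem nine_of_eight (h2 : (2 : F) ≠ 0)
    (hab : ∀ z₁ z₂ : F, z₁ ^ 2 + a * z₁ * z₂ + b * z₂ ^ 2 = 0 → z₁ = 0 ∧ z₂ = 0) {n : ℕ}
    (h : HasCls (ellQ 3 a b) 1 n) : ∃ g, Spn (nineQ a b) g 1 ∧ n ∣ orderOf g := by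
  obtain ⟨g, v, hg, hn⟩ := h
  obtain ⟨p, hp⟩ := CharP.exists F
  haveI := hp
  haveI : Fact p.Prime := ⟨CharP.char_is_prime F p⟩
  have hQ := pnd_ellQ h2 3 hab
  haveI : Finite (V8 F) := inferInstance
  haveI : Finite (V8 F ≃ₗ[F] V8 F) :=
    Finite.of_injective _ DFunLike.coe_injective
  obtain ⟨x, y, m, c, hm, hord, hs, hu, hsu⟩ := exists_split (Fact.out : p.Prime) g
  have hm0 : (m : F) ≠ 0 := cast_ne F hm
  have hs1 : (g ^ x) ^ m = 1 := hs ▸ pow_orderOf_eq_one _
  have hu1 : (g ^ y) ^ p ^ c = 1 := hu ▸ pow_orderOf_eq_one _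
  have hc : Commute (g ^ x) (g ^ y) := (Commute.refl g).pow_pow x y
  obtain ⟨-, hno⟩ := aff_bound (p := p) hs1 hm0 hsu hc rfl hu1 v
  obtain ⟨hb, -⟩ := aff_bound (p := p) hs1 hm0 hsu hc rfl hu1 v
  have hpair : Spn (nineQ a b) (pairHom (g, 1)) 1 := by simpa using hg.pair (Spn.one (Q := lineQ F 1))
  have hinj : orderOf (pairHom (g, (1 : F ≃ₗ[F] F))) = orderOf g := by
    rw [orderOf_injective _ pairHom_injective, Prod.orderOf_mk, orderOf_one, Nat.lcm_one_right]
  by_cases hW : ∀ w, (g ^ x) w = w →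
      ((((g ^ y : V8 F ≃ₗ[F] V8 F) : Module.End F (V8 F)) - 1) ^ (p ^ c - 1)) w = 0
  · exact ⟨_, hpair, by rw [hinj, hord]; exact hn.trans (hno hW)⟩
  push Not at hW
  obtain ⟨w, hw, hw0⟩ := hW
  have hsp : Spn (ellQ 3 a b) (g ^ x) 1 := by simpa using hg.pow x
  obtain ⟨k, hk⟩ := even_moved hQ hsp
  rw [finrank_ell] at hk
  have hlt : p ^ c - 1 < finrank F (fixSp (g ^ x)) := by
    refine lt_finrank_of_nilp (N := ((g ^ y : V8 F ≃ₗ[F] V8 F) : Module.End F (V8 F)) - 1) (fun z hz => ?_)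
      ((pow_eq_one_iff_nilp (g ^ y) c).1 hu1) (mem_fixSp.2 hw) hw0
    refine mem_fixSp.2 ?_
    rw [LinearMap.sub_apply, Module.End.one_apply, map_sub, LinearEquiv.coe_coe, ← LinearEquiv.mul_apply, hc.eq,
      LinearEquiv.mul_apply, mem_fixSp.1 hz]
  have hp3 : 3 ≤ p := by
    rcases Nat.lt_or_ge p 3 with h | h
    · exfalso
      obtain rfl : p = 2 := le_antisymm (by omega) (Fact.out : p.Prime).two_le
      exact h2 (by exact_mod_cast CharP.cast_eq_zero F 2)
    · exact h
  obtain ⟨t, ht⟩ : Odd (p ^ c) := ((Fact.out : p.Prime).odd_of_ne_two (by omega)).pow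
  set s9 := pairHom (g ^ x, (1 : F ≃ₗ[F] F))
  have hs9 : Spn (nineQ a b) s9 1 := by simpa using hsp.pair (Spn.one (Q := lineQ F 1))
  have hs9o : orderOf s9 = m := by
    rw [orderOf_injective _ pairHom_injective, Prod.orderOf_mk, orderOf_one, Nat.lcm_one_right, hs]
  have hs9m : s9 ^ m = 1 := hs9o ▸ pow_orderOf_eq_one _
  obtain ⟨z, hz, hz0, ⟨v', -, hv'⟩, -, hcomm⟩ := exists_chain h2
    (fixSp_nondeg (pnd_nine h2 hab) hs9.mem hs9m hm0) (t + 1)
      ((show 2 * (t + 1) + 1 ≤ finrank F (fixSp (g ^ x)) + 1 by omega).trans (finrank_fixSp_pair (g ^ x)).symm.le)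
  have hc9 : Commute s9 z := hcomm s9 hs9.mem fun w hw' => mem_fixSp.1 hw'
  have hzp : z ^ p ^ (c + 1) = 1 := by
    rw [pow_eq_one_iff_nilp]
    refine pow_eq_zero_of_le ?_ hz0
    have := Nat.one_le_pow c p (by omega)
    rw [pow_succ]
    nlinarith
  have hzn : ¬ z ^ p ^ c = 1 := fun h => hv' (by
    rw [pow_eq_zero_of_le (show p ^ c ≤ 2 * (t + 1) by omega) ((pow_eq_one_iff_nilp z c).1 h)]; rfl)
  have hzo : orderOf z = p ^ (c + 1) := orderOf_eq_prime_pow hzn hzp
  refine ⟨s9 * z, ?_, ?_⟩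
  · simpa using hs9.mul (spn_one_of_odd (pnd_nine h2 hab) h2 hz
      (((Fact.out : p.Prime).odd_of_ne_two (by omega)).pow) hzp)
  · rw [hc9.orderOf_mul_eq_mul_orderOf_of_coprime (by
      rw [hs9o, hzo]; exact (((Fact.out : p.Prime).coprime_iff_not_dvd.2 hm).symm.pow_right _)), hs9o, hzo]
    exact hn.trans hb

/-- The case where the fixed space of the semisimple part contains a line with elliptic orthogonal space. -/
theorem eight_of_fixed (h2 : (2 : F) ≠ 0)
    (hab : ∀ z₁ z₂ : F, z₁ ^ 2 + a * z₁ * z₂ + b * z₂ ^ 2 = 0 → z₁ = 0 ∧ z₂ = 0) {p : ℕ} [Fact p.Prime] [CharP F p]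
    {s u : V9 F ≃ₗ[F] V9 F} {m c : ℕ}
    (hs : Spn (nineQ a b) s 1) (hu : u ∈ Iso (nineQ a b)) (hc : Commute s u) (hm : ¬ p ∣ m) (hso : orderOf s = m)
    (huo : orderOf u = p ^ c) (h1 : s (0, 1) = (0, 1)) (hdim : 2 ≤ finrank F (fixSp s)) :
    HasCls (ellQ 3 a b) 1 (m * p ^ c) := by
  have hQ := pnd_ellQ h2 3 hab
  have hQ9 := pnd_nine h2 hab
  have hL := pnd_lineQ h2 (one_ne_zero (α := F))
  have hm0 : (m : F) ≠ 0 := cast_ne F hm
  have hs1 : s ^ m = 1 := hso ▸ pow_orderOf_eq_one _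
  have hp3 : 3 ≤ p := by
    rcases Nat.lt_or_ge p 3 with h | h
    · exfalso
      obtain rfl : p = 2 := le_antisymm (by omega) (Fact.out : p.Prime).two_le
      exact h2 (by exact_mod_cast CharP.cast_eq_zero F 2)
    · exact h
  obtain ⟨s8, hs8i, hs8⟩ := exists_of_fix h2 one_ne_zero hs.mem h1
  have hs8s : Spn (ellQ 3 a b) s8 1 := Spn.of_pair hQ hL h2 hs8i (hs8 ▸ hs)
  have hs8o : orderOf s8 = m := by
    rw [← hso, hs8, orderOf_injective _ pairHom_injective, Prod.orderOf_mk, orderOf_one, Nat.lcm_one_right]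
  rcases c with _ | c
  · exact (hasCls_order hs8s).dvd (by simp [hs8o])
  obtain ⟨k, hk⟩ := even_moved hQ9 hs
  rw [Module.finrank_prod, finrank_ell, Module.finrank_self] at hk
  have hu1 : u ^ p ^ (c + 1) = 1 := huo ▸ pow_orderOf_eq_one _
  by_cases hW : ∀ w, s w = w → (u ^ p ^ c) w = w
  · -- the moved space carries the order
    obtain ⟨r, hr, hrs, hrn⟩ := exists_rest hs.mem hs1 hm0 hu hc.symm
    have hr1 : r ^ p ^ (c + 1) = 1 := LinearEquiv.ext fun x => by rw [hrn, hu1]; simp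
    have hrn1 : ¬ r ^ p ^ c = 1 := by
      intro h
      have : u ^ p ^ c = 1 := by
        refine LinearEquiv.ext fun x => ?_
        have h' := DFunLike.congr_fun h x
        rw [hrn, LinearEquiv.coe_one, id] at h'
        have := hW _ (avg_fix hs1 x)
        rw [map_sub, this] at h'
        simpa using h'
      have := orderOf_dvd_of_pow_eq_one this
      rw [huo, Nat.pow_dvd_pow_iff_le_right (by omega)] at this
      omega
    have hfix : r (0, 1) = (0, 1) := by
      have := hrn 1 (0, 1)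
      rw [pow_one, avg_of_fix hm0 h1, sub_self, map_zero, zero_add] at this
      exact this
    obtain ⟨r8, hr8i, hr8⟩ := exists_of_fix h2 one_ne_zero hr hfix
    have hr8o : orderOf r8 = p ^ (c + 1) := by
      have e := orderOf_eq_prime_pow hrn1 hr1
      rw [hr8, orderOf_injective _ pairHom_injective, Prod.orderOf_mk, orderOf_one, Nat.lcm_one_right] at e
      exact e
    have hcm : Commute s8 r8 := by
      have := hrs.symm.eq
      rw [hs8, hr8, ← map_mul, ← map_mul, pairHom_injective.eq_iff, Prod.mk_mul_mk, Prod.mk_mul_mk, Prod.mk.injEq]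
        at this
      exact this.1
    refine (hasCls_order (g := s8 * r8) ?_).dvd (dvd_of_eq ?_)
    · simpa using hs8s.mul (spn_one_of_odd hQ h2 hr8i
        (((Fact.out : p.Prime).odd_of_ne_two (by omega)).pow) (hr8o ▸ pow_orderOf_eq_one r8))
    · rw [hcm.orderOf_mul_eq_mul_orderOf_of_coprime (by
        rw [hs8o, hr8o]; exact (((Fact.out : p.Prime).coprime_iff_not_dvd.2 hm).symm.pow_right _)), hs8o, hr8o]
  · -- the fixed space carries the order
    push Not at hW
    obtain ⟨w, hw, hw0⟩ := hW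
    have hN : (((u : Module.End F (V9 F)) - 1) ^ p ^ c) w ≠ 0 := by
      rw [sub_one_pow_char, LinearMap.sub_apply, coe_pow', Module.End.one_apply, sub_ne_zero]
      exact hw0
    have hlt : p ^ c < finrank F (fixSp s) := by
      refine lt_finrank_of_nilp (N := (u : Module.End F (V9 F)) - 1) (fun z hz => ?_)
        ((pow_eq_one_iff_nilp u (c + 1)).1 hu1) (mem_fixSp.2 hw) hN
      refine mem_fixSp.2 ?_
      rw [LinearMap.sub_apply, Module.End.one_apply, map_sub, LinearEquiv.coe_coe, ← LinearEquiv.mul_apply, hc.eq,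
        LinearEquiv.mul_apply, mem_fixSp.1 hz]
    obtain ⟨t, ht⟩ : Odd (p ^ c) := ((Fact.out : p.Prime).odd_of_ne_two (by omega)).pow
    have hfs : finrank F (fixSp s) = finrank F (fixSp s8) + 1 := hs8 ▸ finrank_fixSp_pair s8
    obtain ⟨z, hz, hz0, ⟨v, hv, hv'⟩, -, hcomm⟩ := exists_chain h2
      (fixSp_nondeg hQ hs8i (hs8o ▸ pow_orderOf_eq_one s8) hm0) t
      ((show 2 * t + 1 ≤ finrank F (fixSp s8) by omega).trans le_rfl)
    have hzp : z ^ p ^ c = 1 := (pow_eq_one_iff_nilp z c).2 (ht ▸ hz0)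
    refine ⟨s8 * z, v, ?_, ?_⟩
    · simpa using hs8s.mul (spn_one_of_odd hQ h2 hz
        (((Fact.out : p.Prime).odd_of_ne_two (by omega)).pow) hzp)
    · exact aff_gain (hcomm s8 hs8i fun w hw' => mem_fixSp.1 hw') hs8o hm hzp (mem_fixSp.1 hv)
        (by rw [show p ^ c - 1 = 2 * t by omega]; exact hv')

/-- The orthogonal space of a vector fixed by an element. -/
theorem split_at (h2 : (2 : F) ≠ 0) (hQ : PND Q) {e : V} (he : Q e ≠ 0) :
    ∃ L : (LinearMap.ker (Q.polarBilin e) × F) ≃ₗ[F] V, L (0, 1) = e ∧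
      (∀ x, L x = (x.1 : V) + x.2 • e) ∧
      (∀ x, Q (L x) = ((Q.comp (LinearMap.ker (Q.polarBilin e)).subtype).prod (lineQ F (Q e))) x) ∧
      PND (Q.comp (LinearMap.ker (Q.polarBilin e)).subtype) := by
  set U := LinearMap.ker (Q.polarBilin e)
  have hmem : ∀ {x}, x ∈ U ↔ polar Q e x = 0 := LinearMap.mem_ker
  have h2e : 2 * Q e ≠ 0 := mul_ne_zero h2 he
  let f : (U × F) →ₗ[F] V := U.subtype.comp (LinearMap.fst F U F) + (LinearMap.snd F U F).smulRight e
  have hf : ∀ x, f x = (x.1 : V) + x.2 • e := fun x => rfl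
  have hinj : Function.Injective f := LinearMap.ker_eq_bot.1 (LinearMap.ker_eq_bot'.2 fun x hx => by
    have h := congrArg (fun z => polar Q e z) ((hf x).symm.trans hx)
    simp only [polar_add_right, hmem.1 x.1.2, polar_smul_right, polar_zero_right, polar_self_two, smul_eq_mul,
      zero_add, mul_eq_zero, h2, he, or_false] at h
    refine Prod.ext (Subtype.ext ?_) h
    simpa [hf, h] using hx)
  have hsurj : Function.Surjective f := fun x => by
    have hx : x - (polar Q e x / (2 * Q e)) • e ∈ U := hmem.2 (by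
      rw [polar_sub_right, polar_smul_right, polar_self_two, smul_eq_mul, div_mul_cancel₀ _ h2e, sub_self])
    exact ⟨(⟨_, hx⟩, polar Q e x / (2 * Q e)), by rw [hf]; exact sub_add_cancel _ _⟩
  refine ⟨LinearEquiv.ofBijective f ⟨hinj, hsurj⟩, (hf _).trans (by simp), hf, fun x => ?_, fun x hx => ?_⟩
  · change Q (f x) = _
    rw [hf, QuadraticMap.map_add Q, polar_smul_right, polar_comm,
      hmem.1 x.1.2, smul_zero, add_zero, QuadraticMap.map_smul, QuadraticMap.prod_apply, lineQ_apply, smul_eq_mul]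
    simp only [QuadraticMap.comp_apply, Submodule.subtype_apply]
    ring
  · refine Subtype.ext (hQ _ fun w => ?_)
    obtain ⟨⟨y, t⟩, rfl⟩ := hsurj w
    rw [hf, polar_add_right, polar_smul_right, polar_comm Q _ e, hmem.1 x.2, smul_zero, add_zero]
    exact hx y

/-- An isometry of the nine-dimensional space gives an affine isometry in dimension eight. -/
theorem eight_of_nine (h2 : (2 : F) ≠ 0)
    (hab : ∀ z₁ z₂ : F, z₁ ^ 2 + a * z₁ * z₂ + b * z₂ ^ 2 = 0 → z₁ = 0 ∧ z₂ = 0)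
    {g : V9 F ≃ₗ[F] V9 F}
    (hg : Spn (nineQ a b) g 1) : HasCls (ellQ 3 a b) 1 (orderOf g) := by
  obtain ⟨p, hp⟩ := CharP.exists F
  haveI := hp
  haveI : Fact p.Prime := ⟨CharP.char_is_prime F p⟩
  have hQ9 := pnd_nine h2 hab
  haveI : Finite (V9 F ≃ₗ[F] V9 F) :=
    Finite.of_injective _ DFunLike.coe_injective
  obtain ⟨x, y, m, c, hm, hord, hs, hu, hsu⟩ := exists_split (Fact.out : p.Prime) g
  have hm0 : (m : F) ≠ 0 := cast_ne F hm
  have hs1 : (g ^ x) ^ m = 1 := hs ▸ pow_orderOf_eq_one _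
  have hsp : Spn (nineQ a b) (g ^ x) 1 := by simpa using hg.pow x
  have hc : Commute (g ^ x) (g ^ y) := (Commute.refl g).pow_pow x y
  obtain ⟨k, hk⟩ := even_moved hQ9 hsp
  rw [Module.finrank_prod, finrank_ell, Module.finrank_self] at hk
  have hnd := fixSp_nondeg hQ9 hsp.mem hs1 hm0
  rw [hord]
  by_cases hd : 2 ≤ finrank F (fixSp (g ^ x))
  · obtain ⟨e, he, hQe⟩ := exists_value_on h2 hnd hd
    have he0 : e ≠ 0 := fun h => one_ne_zero (hQe.symm.trans (by rw [h, QuadraticMap.map_zero]))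
    obtain ⟨γ, hγ⟩ := exists_conj hQ9 he0 (w := ((0, 1) : V9 F))
      (by simp) (by rw [hQe]; simp [lineQ_apply])
    have hγQ : ∀ z, nineQ a b (γ.1 z) = 1 * nineQ a b z := fun z => by rw [one_mul]; exact γ.2 z
    have hnew : conjL γ.1 (g ^ x) (0, 1) = (0, 1) := by
      rw [conjL_apply, ← hγ, LinearEquiv.symm_apply_apply, mem_fixSp.1 he]
    refine eight_of_fixed h2 hab (hsp.sim γ.1 one_ne_zero hγQ) (conjL_mem γ.1 γ.2 (pow_mem hg.mem y))
      (hc.map (conjL γ.1)) hm (by rw [orderOf_injective _ (conjL_injective _), hs])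
      (by rw [orderOf_injective _ (conjL_injective _), hu]) hnew ?_
    let ψ : fixSp (g ^ x) →ₗ[F] fixSp (conjL γ.1 (g ^ x)) :=
      ((γ.1 : _ →ₗ[F] _).comp (fixSp (g ^ x)).subtype).codRestrict _ fun z => mem_fixSp.2 (by
        change conjL γ.1 (g ^ x) (γ.1 (z : V9 F)) = γ.1 (z : V9 F)
        rw [conjL_apply, LinearEquiv.symm_apply_apply, mem_fixSp.1 z.2])
    exact hd.trans (LinearMap.finrank_le_finrank_of_injective (f := ψ) fun z z' h =>
      Subtype.ext (γ.1.injective (congrArg Subtype.val h)))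
  -- the fixed space is a line
  have hd1 : finrank F (fixSp (g ^ x)) = 1 := by omega
  obtain ⟨e, heW, he0⟩ := Submodule.exists_mem_ne_zero_of_ne_bot (p := fixSp (g ^ x)) fun h => by
    rw [h, finrank_bot] at hd1; omega
  have hspan : ∀ z ∈ fixSp (g ^ x), ∃ t : F, z = t • e := fun z hz => by
    have h := Submodule.eq_of_le_of_finrank_eq ((Submodule.span_singleton_le_iff_mem _ _).2 heW)
      (by rw [finrank_span_singleton he0, hd1])
    obtain ⟨t, ht⟩ := Submodule.mem_span_singleton.1 (h ▸ hz : z ∈ Submodule.span F {e})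
    exact ⟨t, ht.symm⟩
  have hQe : nineQ a b e ≠ 0 := fun h0 => he0 (hnd e heW fun z hz => by
    obtain ⟨t, rfl⟩ := hspan z hz
    rw [polar_smul_right, polar_self_two, h0, mul_zero, smul_zero])
  obtain ⟨t, ht⟩ := hspan ((g ^ y) e) (mem_fixSp.2 (by
    rw [← LinearEquiv.mul_apply, hc.eq, LinearEquiv.mul_apply, mem_fixSp.1 heW]))
  have ht1 : t = 1 := by
    have hpow : ∀ n : ℕ, ((g ^ y) ^ n) e = t ^ n • e := by
      intro n
      induction n with
      | zero => simp
      | succ n ih => rw [pow_succ', LinearEquiv.mul_apply, ih, map_smul, ht, smul_smul, pow_succ]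
    have h1 := hpow (p ^ c)
    rw [← hu, pow_orderOf_eq_one, LinearEquiv.coe_one, id, hu] at h1
    have h3 : t ^ p ^ c = 1 := by
      by_contra hne
      refine he0 ((smul_eq_zero.1 (show (t ^ p ^ c - 1) • e = 0 from ?_)).resolve_left (sub_ne_zero.2 hne))
      rw [sub_smul, one_smul, ← h1, sub_self]
    have h4 := sub_pow_char_pow t 1 (n := c) (p := p)
    rw [h3, one_pow, sub_self] at h4
    exact sub_eq_zero.1 ((pow_eq_zero_iff (pow_ne_zero c (Fact.out : p.Prime).ne_zero)).1 h4)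
  have hge : g e = e := by
    rw [← hsu, LinearEquiv.mul_apply, ht, ht1, one_smul, mem_fixSp.1 heW]
  obtain ⟨U, hU⟩ : ∃ U, U = LinearMap.ker ((nineQ a b).polarBilin e) := ⟨_, rfl⟩
  have hsp2 := split_at h2 hQ9 hQe
  rw [← hU] at hsp2
  obtain ⟨L, hL1, hLv, hLQ, hUp⟩ := hsp2
  have hLs : ∀ z, (((nineQ a b).comp U.subtype).prod (lineQ F (nineQ a b e))) (L.symm z) = 1 * nineQ a b z := fun z => by
    exact ((hLQ (L.symm z)).symm.trans (by rw [L.apply_symm_apply])).trans (one_mul _).symm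
  have hg' := hg.sim L.symm one_ne_zero hLs
  have hg1 : conjL L.symm g (0, 1) = (0, 1) := by
    rw [conjL_apply, LinearEquiv.symm_symm, hL1, hge, ← hL1, L.symm_apply_apply]
  obtain ⟨gU, hgUi, hgU⟩ := exists_of_fix h2 hQe hg'.mem hg1
  have hgUs : Spn ((nineQ a b).comp U.subtype) gU 1 := Spn.of_pair hUp (pnd_lineQ h2 hQe) h2 hgUi (hgU ▸ hg')
  have hgUo : orderOf gU = m * p ^ c := by
    rw [← hord, ← orderOf_injective _ (conjL_injective L.symm) g, hgU, orderOf_injective _ pairHom_injective,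
      Prod.orderOf_mk, orderOf_one, Nat.lcm_one_right]
  have hdU : finrank F U = 2 * 4 := by
    have := L.finrank_eq
    rw [Module.finrank_prod, Module.finrank_prod, finrank_ell, Module.finrank_self] at this
    omega
  rw [← hgUo]
  rcases OrthogonalPrimeClasses.even_count ((nineQ a b).comp U.subtype) (by norm_num) hdU hUp a b hab with ⟨-, hcount⟩ | ⟨⟨L₀, hL₀⟩, -⟩
  · refine good_hasCls h2 hab (good_of_fpf hUp h2 (p := p) (by rw [hdU]) hcount hgUs fun z hz => ?_)
    have hgz : g (z : V9 F) = z := by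
      have := DFunLike.congr_fun hgU (z, 0)
      rw [conjL_apply, LinearEquiv.symm_symm, pairHom_apply, hz, LinearEquiv.coe_one, id] at this
      have := congrArg L this
      rw [L.apply_symm_apply, hLv] at this
      simpa using this
    obtain ⟨r, hr⟩ := hspan _ (mem_fixSp.2 (fix_pow hgz x))
    have hz0 : polar (nineQ a b) e (z : V9 F) = 0 := by
      have h := z.2
      simp only [hU, LinearMap.mem_ker] at h
      exact h
    rw [hr, polar_smul_right, polar_self_two, smul_eq_mul, mul_eq_zero] at hz0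
    exact Subtype.ext (by rw [hr, hz0.resolve_right (mul_ne_zero h2 hQe), zero_smul]; rfl)
  · obtain ⟨L₁, hL₁⟩ := sim_minus (F := F) 3 a b
    refine (hasCls_order hgUs).sim ⟨L₀.symm.trans L₁, fun z => ?_⟩
    rw [LinearEquiv.trans_apply, coe_ellQ, hL₁, ← hL₀, L₀.apply_symm_apply]

/-- Divisors of orders are orders. -/
theorem exists_orderOf_eq {G : Type*} [Group G] {x : G} (hx : IsOfFinOrder x) {n : ℕ} (h : n ∣ orderOf x) :
    ∃ k : ℕ, orderOf (x ^ k) = n :=
  ⟨orderOf x / n, orderOf_pow_orderOf_div hx.orderOf_pos.ne' h⟩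

/-- The orders in the derived group in dimension nine are those of the affine extension in dimension eight. -/
theorem orders_eq (h2 : (2 : F) ≠ 0)
    (hab : ∀ z₁ z₂ : F, z₁ ^ 2 + a * z₁ * z₂ + b * z₂ ^ 2 = 0 → z₁ = 0 ∧ z₂ = 0) (n : ℕ) :
    (∃ g, Spn (nineQ a b) g 1 ∧ orderOf g = n) ↔ ∃ g v, Spn (ellQ 3 a b) g 1 ∧ orderOf (aff g v) = n := by
  haveI : Finite (V9 F ≃ₗ[F] V9 F) :=
    Finite.of_injective _ DFunLike.coe_injective
  constructor
  · rintro ⟨g, hg, rfl⟩
    obtain ⟨h, v, hh, hd⟩ := eight_of_nine h2 hab hg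
    obtain ⟨k, hk⟩ := exists_orderOf_eq (isOfFinOrder_of_finite _) hd
    rw [aff_pow] at hk
    exact ⟨h ^ k, _, by simpa using hh.pow k, hk⟩
  · rintro ⟨g, v, hg, rfl⟩
    obtain ⟨h, hh, hd⟩ := nine_of_eight h2 hab ⟨g, v, hg, dvd_rfl⟩
    obtain ⟨k, hk⟩ := exists_orderOf_eq (isOfFinOrder_of_finite _) hd
    exact ⟨h ^ k, by simpa using hh.pow k, hk⟩

end Cfsg.Agent.Lie.OrthNine
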