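import Cfsg.Agent.Lib.Lie.OrthNine.Unip
import Cfsg.Agent.Lib.Lie.SpEight.Models
import Cfsg.Agent.Lib.Small.Orth.Levi

/-!
Hyperbolic and elliptic models in odd characteristic, the tori whose generators have non-square class, and the
small pieces from which the witnesses are put together.
-/

set_option autoImplicit false
set_option linter.unusedSectionVars false
set_option linter.style.haveILetI false

namespace Cfsg.Agent.Lie.OrthNine

open Module QuadraticMap Matrix Cfsg.Agent.Classical Cfsg.Agent.Classical.OCount Cfsg.Agent.Classical.ORefl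
  Cfsg.Agent.Classical.OOmega Cfsg.Agent.Small Cfsg.Agent.Small.Orth Cfsg.Agent.Lie.SpEight

variable {F : Type*} [Field F]

/-! ### The forms -/

variable (F) in
/-- The hyperbolic form. -/
noncomputable def hypQ (m : ℕ) : QuadraticForm F ((Fin m → F) × (Fin m → F)) :=
  ∑ i, linMulLin ((LinearMap.proj i).comp (LinearMap.fst F (Fin m → F) (Fin m → F)))
    ((LinearMap.proj i).comp (LinearMap.snd F (Fin m → F) (Fin m → F)))

theorem coe_hypQ (m : ℕ) : ⇑(hypQ F m) = hyp F m := funext fun p => by simp [hypQ, hyp]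

/-- The binary form. -/
noncomputable def nQf (a b : F) : QuadraticForm F (F × F) :=
  linMulLin (LinearMap.fst F F F) (LinearMap.fst F F F) + a • linMulLin (LinearMap.fst F F F) (LinearMap.snd F F F) +
    b • linMulLin (LinearMap.snd F F F) (LinearMap.snd F F F)

theorem coe_nQf (a b : F) : ⇑(nQf a b) = nQ a b := funext fun z => by simp [nQf, nQ]; ring

/-- The elliptic form. -/
noncomputable def ellQ (m : ℕ) (a b : F) : QuadraticForm F (((Fin m → F) × (Fin m → F)) × (F × F)) :=
  (hypQ F m).prod (nQf a b)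

theorem coe_ellQ (m : ℕ) (a b : F) : ⇑(ellQ m a b) = ell m a b := by
  rw [ellQ, coe_prod, coe_hypQ, coe_nQf]; rfl

theorem pnd_hypQ (m : ℕ) : PND (hypQ F m) := fun p hp => by
  have e : ∀ x y : (Fin m → F) × (Fin m → F),
      polar (hypQ F m) x y = ∑ i, (x.1 i * y.2 i + x.2 i * y.1 i) := fun x y => by
    simp only [polar, coe_hypQ, hyp, Prod.fst_add, Prod.snd_add, Pi.add_apply, ← Finset.sum_sub_distrib]
    exact Finset.sum_congr rfl fun i _ => by ring
  refine Prod.ext (funext fun i => ?_) (funext fun i => ?_)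
  · simpa [e, Pi.single_apply] using hp (0, Pi.single i 1)
  · simpa [e, Pi.single_apply] using hp (Pi.single i 1, 0)

variable [Fintype F] {a b : F}

theorem pnd_nQf (h2 : (2 : F) ≠ 0) (hab : ∀ z₁ z₂ : F, z₁ ^ 2 + a * z₁ * z₂ + b * z₂ ^ 2 = 0 → z₁ = 0 ∧ z₂ = 0) :
    PND (nQf a b) := fun v hv => by
  have h := hv v
  rw [QuadraticMap.polar_self, nsmul_eq_mul, Nat.cast_ofNat, coe_nQf] at h
  obtain ⟨e1, e2⟩ := hab _ _ ((mul_eq_zero.mp h).resolve_left h2)
  exact Prod.ext e1 e2

theorem pnd_ellQ (h2 : (2 : F) ≠ 0) (m : ℕ)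
    (hab : ∀ z₁ z₂ : F, z₁ ^ 2 + a * z₁ * z₂ + b * z₂ ^ 2 = 0 → z₁ = 0 ∧ z₂ = 0) : PND (ellQ m a b) :=
  prod_pnd (pnd_hypQ m) (pnd_nQf h2 hab)

theorem finrank_hyp (m : ℕ) : finrank F ((Fin m → F) × (Fin m → F)) = 2 * m := by
  simp [Module.finrank_prod]; ring

theorem finrank_ell (m : ℕ) : finrank F (((Fin m → F) × (Fin m → F)) × (F × F)) = 2 * m + 2 := by
  simp [Module.finrank_prod]; ring

theorem complete_square (h2 : (2 : F) ≠ 0) (a b r : F) :
    (-(a / 2) + r) ^ 2 + a * (-(a / 2) + r) * 1 + b * 1 ^ 2 = r * r - (a / 2 * (a / 2) - b) := by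
  field_simp
  ring

/-- Two elliptic planes make a hyperbolic space. -/
theorem sim_planes (h2 : (2 : F) ≠ 0)
    (hab : ∀ z₁ z₂ : F, z₁ ^ 2 + a * z₁ * z₂ + b * z₂ ^ 2 = 0 → z₁ = 0 ∧ z₂ = 0) :
    Sim (sumQ (nQ a b) (nQ a b)) (hyp F 2) := by
  obtain ⟨M, hM⟩ := QuadBasis.similarity (nQf a b) le_rfl (by simp [Module.finrank_prod])
    (QuadModels.nondegenerate (pnd_nQf h2 hab)) (-1) (neg_ne_zero.2 one_ne_zero)
  simp only [coe_nQf] at hM
  let P₁ : F × F →ₗ[F] F := LinearMap.fst F F F + (a / 2) • LinearMap.snd F F F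
  let P₂ : F × F →ₗ[F] F := (a / 2) • LinearMap.fst F F F + b • LinearMap.snd F F F
  let u : (F × F) × (F × F) →ₗ[F] F × F := LinearMap.fst F _ _ + (M : F × F →ₗ[F] F × F).comp (LinearMap.snd F _ _)
  let w : (F × F) × (F × F) →ₗ[F] F × F := LinearMap.fst F _ _ - (M : F × F →ₗ[F] F × F).comp (LinearMap.snd F _ _)
  let f : (F × F) × (F × F) →ₗ[F] (Fin 2 → F) × (Fin 2 → F) :=
    (LinearMap.pi ![(LinearMap.fst F F F).comp u, (LinearMap.snd F F F).comp u]).prod
      (LinearMap.pi ![P₁.comp w, P₂.comp w])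
  have hfv : ∀ p, f p = (![(u p).1, (u p).2], ![P₁ (w p), P₂ (w p)]) := fun p => by
    refine Prod.ext ?_ ?_ <;> funext i <;> fin_cases i <;> rfl
  have hd : b - a / 2 * (a / 2) ≠ 0 := fun h => by
    exact one_ne_zero (hab (-(a / 2) + 0) 1 (by rw [complete_square h2]; linear_combination h)).2
  have hinj : Function.Injective f := by
    rw [← LinearMap.ker_eq_bot, LinearMap.ker_eq_bot']
    intro p hp
    rw [hfv, Prod.mk_eq_zero] at hp
    have e1 : (u p).1 = 0 := by simpa using congrFun hp.1 0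
    have e2 : (u p).2 = 0 := by simpa using congrFun hp.1 1
    have e3 : (w p).1 + a / 2 * (w p).2 = 0 := by simpa [P₁] using congrFun hp.2 0
    have e4 : a / 2 * (w p).1 + b * (w p).2 = 0 := by simpa [P₂] using congrFun hp.2 1
    have w2 : (w p).2 = 0 := (mul_eq_zero.1 (show (b - a / 2 * (a / 2)) * (w p).2 = 0 by
      linear_combination e4 - a / 2 * e3)).resolve_left hd
    have w1 : (w p).1 = 0 := by simpa [w2] using e3
    have hu : u p = 0 := Prod.ext e1 e2
    have hw : w p = 0 := Prod.ext w1 w2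
    simp only [u, w, LinearMap.add_apply, LinearMap.sub_apply, LinearMap.fst_apply, LinearMap.comp_apply,
      LinearMap.snd_apply] at hu hw
    have h1 : p.1 = 0 := by
      refine (smul_eq_zero.1 (show (2 : F) • p.1 = 0 from ?_)).resolve_left h2
      rw [two_smul]
      linear_combination (norm := abel) hu + hw
    have h3 : M p.2 = 0 := by simpa [h1] using hu
    exact Prod.ext h1 (by simpa using congrArg M.symm h3)
  have hdim : finrank F ((F × F) × (F × F)) = finrank F ((Fin 2 → F) × (Fin 2 → F)) := by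
    simp [Module.finrank_prod]
  refine ⟨LinearMap.linearEquivOfInjective f hinj hdim, fun p => ?_⟩
  rw [LinearMap.linearEquivOfInjective_apply, hfv]
  have := hM p.2
  simp only [hyp, sumQ, Fin.sum_univ_two, Matrix.cons_val_zero, Matrix.cons_val_one, u, w, P₁, P₂, LinearMap.add_apply,
    LinearMap.sub_apply, LinearMap.fst_apply, LinearMap.comp_apply, LinearMap.snd_apply, LinearEquiv.coe_coe,
    Prod.fst_add, Prod.snd_add, Prod.fst_sub, Prod.snd_sub, LinearMap.smul_apply, smul_eq_mul]
  simp only [nQ] at this ⊢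
  field_simp
  linear_combination (-2 : F) * this

/-! ### Non-squares -/

theorem odd_card (h2 : (2 : F) ≠ 0) : Odd (Fintype.card F) := by
  rw [Nat.odd_iff]
  exact FiniteField.odd_card_of_char_ne_two fun h => h2 (by
    haveI := ringChar.of_eq h; exact CharTwo.two_eq_zero)

theorem isSquare_mul_of_not {F : Type*} [Field F] [Finite F] (h2 : (2 : F) ≠ 0) {x y : F} (hx : ¬ IsSquare x)
    (hy : ¬ IsSquare y) : IsSquare (x * y) :=
  (isSquare_iff_mul h2 (by rintro rfl; exact hx IsSquare.zero) (by rintro rfl; exact hy IsSquare.zero)).2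
    (iff_of_false hx hy)

variable {K : Type*} [Field K] [Finite K] [Algebra F K]

theorem norm_nonsquare (h2 : (2 : F) ≠ 0) {P : K} (hP : ¬ IsSquare P) : ¬ IsSquare (Algebra.norm F P) := by
  rintro ⟨r, hr⟩
  haveI := Fintype.ofFinite K
  have hP0 : P ≠ 0 := fun h => hP (h ▸ IsSquare.zero)
  have hr0 : r ≠ 0 := fun h => by
    rw [h, mul_zero, Algebra.norm_eq_zero_iff] at hr
    exact hP0 hr
  have hK2 : ringChar K ≠ 2 := fun h => h2 (by
    haveI := ringChar.of_eq h
    have := CharTwo.two_eq_zero (R := K)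
    rw [← map_ofNat (algebraMap F K)] at this
    exact (algebraMap F K).injective (this.trans (map_zero _).symm))
  obtain ⟨t, ht⟩ := odd_card h2
  obtain ⟨e, he⟩ : Fintype.card F - 1 ∣ Fintype.card K - 1 := by
    rw [Module.card_eq_pow_finrank (K := F) (V := K)]
    exact Nat.sub_one_dvd_pow_sub_one _ _
  have hN := FiniteField.algebraMap_norm_eq_pow (K := F) (K' := K) (x := P)
  rw [Nat.card_eq_fintype_card, Nat.card_eq_fintype_card, he,
    Nat.mul_div_cancel_left _ (by have := Fintype.one_lt_card (α := F); omega), hr, map_mul] at hN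
  refine hP ((FiniteField.isSquare_iff hK2 hP0).2 ?_)
  have hcard : Fintype.card K / 2 = e * t := by
    rw [show Fintype.card F - 1 = 2 * t by omega, mul_assoc] at he
    have := Fintype.card_pos (α := K)
    rw [show Fintype.card K = 1 + 2 * (t * e) by omega, Nat.add_mul_div_left _ _ two_pos]
    simp [mul_comm]
  rw [hcard, pow_mul, ← hN, ← _root_.sq, ← pow_mul, show 2 * t = Fintype.card F - 1 by omega, ← map_pow,
    FiniteField.pow_card_sub_one_eq_one r hr0, map_one]

theorem not_isSquare_generator {K : Type*} [Field K] [Finite K] (h2 : (2 : K) ≠ 0) {γ : Kˣ}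
    (hγ : orderOf γ = Nat.card Kˣ) : ¬ IsSquare (γ : K) := by
  haveI := Fintype.ofFinite K
  intro hs
  have hK : ringChar K ≠ 2 := fun h => h2 (by
    haveI := ringChar.of_eq h; exact CharTwo.two_eq_zero)
  have h1 := (FiniteField.isSquare_iff hK γ.ne_zero).1 hs
  have h3 : γ ^ (Fintype.card K / 2) = 1 := Units.ext (by simpa using h1)
  have hdvd := orderOf_dvd_of_pow_eq_one h3
  rw [hγ, Nat.card_units, Nat.card_eq_fintype_card] at hdvd
  have hodd := FiniteField.odd_card_of_char_ne_two hK
  have h4 := Fintype.one_lt_card (α := K)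
  have := Nat.le_of_dvd (by omega) hdvd
  omega

/-! ### The split torus -/

theorem hfam_hypQ (k : ℕ) : HFam (hypQ F k) (fun i => ((Pi.single i 1, 0) : (Fin k → F) × (Fin k → F)))
    fun i => (0, Pi.single i 1) := by
  refine ⟨fun i => ?_, fun i => ?_, fun i j => ?_, fun i j => ?_, fun i j => ?_⟩ <;>
    simp [polar, coe_hypQ, hyp, Pi.single_apply, eq_comm]

/-- The generator of the split torus has non-square class. -/
theorem torus_plus (h2 : (2 : F) ≠ 0) {k : ℕ} (hk : 1 ≤ k) :
    ∃ g d, ¬ IsSquare d ∧ Spn (hypQ F k) g d ∧ orderOf g = Fintype.card F ^ k - 1 := by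
  classical
  obtain ⟨p, hp⟩ := CharP.exists F
  haveI := hp
  haveI : Fact p.Prime := ⟨CharP.char_is_prime F p⟩
  haveI : NeZero k := ⟨by omega⟩
  let K := FiniteField.Extension F p k
  have hK : Module.finrank F K = k := FiniteField.finrank_extension F p k
  haveI : Module.Finite F K := Module.finite_of_finrank_eq_succ (n := k - 1) (by omega)
  haveI : Finite K := Module.finite_of_finite F
  let β : Module.Basis (Fin k) F K := Module.finBasisOfFinrankEq F K hK
  obtain ⟨γ, hγ⟩ := IsCyclic.exists_ofOrder_eq_natCard (α := Kˣ)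
  have h2K : (2 : K) ≠ 0 := by
    rw [← map_ofNat (algebraMap F K)]
    exact (map_ne_zero _).2 h2
  obtain ⟨A, hA⟩ : ∃ A, A = Algebra.leftMulMatrix β (γ : K) := ⟨_, rfl⟩
  have hdet : A.det = Algebra.norm F (γ : K) := by rw [hA, Algebra.norm_eq_matrix_det β]
  have hns : ¬ IsSquare A.det := hdet ▸ norm_nonsquare h2 (not_isSquare_generator h2K hγ)
  have hd0 : A.det ≠ 0 := fun h => hns (h ▸ IsSquare.zero)
  obtain ⟨vs, h1, he, hs, hact⟩ := hasWord_of_det (pnd_hypQ k) (two_ne h2) (hfam_hypQ k) A hd0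
  refine ⟨(prodRf (hypQ F k) vs).1, A.det, hns, ⟨vs, h1, he, hs, rfl⟩, ?_⟩
  set g := (prodRf (hypQ F k) vs).1
  have hpow : ∀ n : ℕ, Acts (hypQ F k) (fun i => ((Pi.single i 1, 0) : (Fin k → F) × (Fin k → F)))
      (fun i => (0, Pi.single i 1)) (A ^ n) ((g ^ n : _ ≃ₗ[F] _) : _ →ₗ[F] _) := by
    intro n
    induction n with
    | zero => rw [pow_zero, pow_zero]; exact Acts.id'
    | succ n ih => rw [pow_succ, pow_succ]; exact ih.comp' hact
  have hiff : ∀ n : ℕ, g ^ n = 1 ↔ A ^ n = 1 := fun n => by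
    constructor
    · intro h
      refine Matrix.ext fun j i => ?_
      have := congrArg (fun x => x.1 j) ((hpow n).one i)
      simp only [h, LinearEquiv.coe_coe, LinearEquiv.coe_one, id_eq, Prod.fst_sum, Prod.smul_fst, Finset.sum_apply,
        Pi.smul_apply, smul_eq_mul, Pi.single_apply, mul_ite, mul_one, mul_zero] at this
      simp only [Finset.sum_ite_eq, Finset.mem_univ, if_true] at this
      rw [← this, Matrix.one_apply]
    · intro h
      refine LinearEquiv.ext fun x => ?_
      have := (hpow n).unique (hfam_hypQ k) (h ▸ Acts.id') x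
      simpa using this
  have hord : orderOf g = orderOf A := orderOf_eq_orderOf_iff.2 hiff
  have hi := orderOf_injective (Algebra.leftMulMatrix β).toRingHom.toMonoidHom (Algebra.leftMulMatrix_injective β) (γ : K)
  rw [hord, hA, show orderOf (Algebra.leftMulMatrix β (γ : K)) = orderOf (γ : K) from hi, orderOf_units, hγ, Nat.card_units,
    Module.natCard_eq_pow_finrank (K := F) (V := K), hK, Nat.card_eq_fintype_card]

/-! ### Restriction of scalars -/

theorem prod_orth_apply {V : Type*} [AddCommGroup V] [Module F V] [FiniteDimensional F V] (Q : QuadraticForm F V)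
    {k : ℕ} (w : Fin k → V) (ho : ∀ i j, i ≠ j → polar Q (w i) (w j) = 0) :
    ∀ l : List (Fin k), l.Nodup → ∀ x, (prodRf Q (l.map w)).1 x =
      x - (l.map fun i => ((Q (w i))⁻¹ * polar Q (w i) x) • w i).sum
  | [], _, x => by simp [prodRf_nil]
  | i :: l, hl, x => by
    rw [List.nodup_cons] at hl
    rw [List.map_cons, prodRf_cons]
    change refl Q (w i) ((prodRf Q (l.map w)).1 x) = _
    rw [prod_orth_apply Q w ho l hl.2 x, refl_apply, List.map_cons, List.sum_cons]
    have h0 : polar Q (w i) (l.map fun j => ((Q (w j))⁻¹ * polar Q (w j) x) • w j).sum = 0 := by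
      rw [← polarBilin_apply_apply, map_list_sum, List.map_map]
      refine List.sum_eq_zero fun y hy => ?_
      obtain ⟨j, hj, rfl⟩ := List.mem_map.1 hy
      simp [ho i j fun e => hl.1 (e ▸ hj)]
    rw [polar_sub_right, h0, sub_zero]
    abel

variable {U : Type*} [AddCommGroup U] [Module K U] [Module F U] [IsScalarTower F K U] [FiniteDimensional K U]
  [FiniteDimensional F U]

/-- A reflection over the big field is a word of fixed class over the small one. -/
theorem res_refl (h2 : (2 : F) ≠ 0) : ∃ D : F, D ≠ 0 ∧ ∀ (T : QuadraticForm K U) (v : U), T v ≠ 0 →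
    ∃ ws : List U, (∀ w ∈ ws, (Algebra.trace F K).compQuadraticMap' T w ≠ 0) ∧
      ws.length = Module.finrank F K ∧
      IsSquare (D * Algebra.norm F (T v) * (ws.map fun w => (Algebra.trace F K).compQuadraticMap' T w).prod) ∧
      (prodRf ((Algebra.trace F K).compQuadraticMap' T) ws).1 = (refl T v).restrictScalars F := by
  classical
  haveI : Module.Finite F K := Module.Finite.of_finite
  haveI : Invertible (2 : F) := invertibleOfNonzero h2
  let b₀ := Module.finBasis F K
  obtain ⟨G, hG⟩ : ∃ G, G = LinearMap.BilinForm.toMatrix b₀ (Algebra.traceForm F K) := ⟨_, rfl⟩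
  have hG0 : G.det ≠ 0 := by rw [hG]; exact det_traceForm_ne_zero b₀
  refine ⟨G.det, hG0, fun T v hv => ?_⟩
  set W := (Algebra.trace F K).compQuadraticMap' T with hW
  have hWv : ∀ z, W z = Algebra.trace F K (T z) := fun z => rfl
  let B : LinearMap.BilinForm F K := (Algebra.traceForm F K).compLeft (LinearMap.mulLeft F (T v))
  have hB : ∀ x y, B x y = Algebra.trace F K (T v * x * y) := fun x y => by
    simp [B, Algebra.traceForm_apply]
  have hBs : LinearMap.IsSymm B := ⟨fun x y => by
    change B x y = B y x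
    rw [hB, hB]; congr 1; ring⟩
  obtain ⟨β, hβ⟩ := LinearMap.BilinForm.exists_orthogonal_basis hBs
  have hβo : ∀ i j, i ≠ j → B (β i) (β j) = 0 := fun i j hij => hβ hij
  have hβn : ∀ i, B (β i) (β i) ≠ 0 := fun i h0 => by
    have hall : ∀ y, Algebra.trace F K (T v * β i * y) = 0 := fun y => by
      rw [← hB, ← β.sum_repr y, map_sum]
      refine Finset.sum_eq_zero fun j _ => ?_
      rcases eq_or_ne i j with rfl | hij
      · rw [map_smul, h0, smul_zero]
      · rw [map_smul, hβo i j hij, smul_zero]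
    exact mul_ne_zero hv (β.ne_zero i) ((traceForm_nondegenerate F K).1 _ fun y => by
      rw [Algebra.traceForm_apply]; exact hall y)
  let w : Fin (Module.finrank F K) → U := fun i => β i • v
  have hval : ∀ i, W (w i) = B (β i) (β i) := fun i => by
    rw [hWv, hB, QuadraticMap.map_smul, smul_eq_mul]; congr 1; ring
  have hpol : ∀ i x, polar W (w i) x = Algebra.trace F K (β i * polar T v x) := fun i x => by
    rw [hW, LinearMap.compQuadraticMap_polar, polar_smul_left, smul_eq_mul]
  have ho : ∀ i j, i ≠ j → polar W (w i) (w j) = 0 := fun i j hij => by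
    rw [hpol, polar_smul_right, smul_eq_mul, QuadraticMap.polar_self, two_nsmul,
      show β i * (β j * (T v + T v)) = T v * β i * β j + T v * β i * β j by ring, map_add, ← hB, hβo i j hij,
      add_zero]
  refine ⟨(List.finRange _).map w, ?_, by simp, ?_, ?_⟩
  · simp only [List.mem_map]
    rintro _ ⟨i, -, rfl⟩
    rw [hval]; exact hβn i
  · have hprod : (((List.finRange (Module.finrank F K)).map w).map fun z => W z).prod = ∏ i, B (β i) (β i) := by
      rw [List.map_map, ← List.prod_toFinset _ (List.nodup_finRange _), List.toFinset_finRange]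
      exact Finset.prod_congr rfl fun i _ => hval i
    have hdiag : LinearMap.BilinForm.toMatrix β B = Matrix.diagonal fun i => B (β i) (β i) := by
      ext i j
      rw [LinearMap.BilinForm.toMatrix_apply]
      rcases eq_or_ne i j with rfl | hij
      · rw [Matrix.diagonal_apply_eq]
      · rw [Matrix.diagonal_apply_ne _ hij, hβo i j hij]
    have hBG : LinearMap.BilinForm.toMatrix b₀ B = (Algebra.leftMulMatrix b₀ (T v))ᵀ * G := by
      ext i j
      rw [LinearMap.BilinForm.toMatrix_apply, hB, Matrix.mul_apply]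
      conv_lhs => rw [← b₀.sum_repr (T v * b₀ i), Finset.sum_mul, map_sum]
      refine Finset.sum_congr rfl fun l _ => ?_
      rw [smul_mul_assoc, map_smul, smul_eq_mul, Matrix.transpose_apply, Algebra.leftMulMatrix_eq_repr_mul, hG,
        LinearMap.BilinForm.toMatrix_apply, Algebra.traceForm_apply]
    have hd := congrArg Matrix.det (LinearMap.BilinForm.toMatrix_mul_basis_toMatrix (b := b₀) β B)
    rw [hdiag, Matrix.det_diagonal, Matrix.det_mul, Matrix.det_mul, Matrix.det_transpose, hBG, Matrix.det_mul,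
      Matrix.det_transpose, ← Algebra.norm_eq_matrix_det] at hd
    rw [hprod, ← hd]
    exact ⟨G.det * Algebra.norm F (T v) * (b₀.toMatrix β).det, by ring⟩
  · refine LinearEquiv.ext fun x => ?_
    rw [prod_orth_apply W w ho _ (List.nodup_finRange _), LinearEquiv.restrictScalars_apply, refl_apply]
    congr 1
    have hz : ∀ i, β.repr ((T v)⁻¹ * polar T v x) i = (W (w i))⁻¹ * polar W (w i) x := fun i => by
      rw [eq_inv_mul_iff_mul_eq₀ (by rw [hval]; exact hβn i), hval, hpol]
      have hzz : β i * polar T v x = T v * β i * ((T v)⁻¹ * polar T v x) := by field_simp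
      rw [hzz, ← hB]
      conv_rhs => rw [← β.sum_repr ((T v)⁻¹ * polar T v x), map_sum]
      rw [Finset.sum_eq_single i (fun j _ hj => by rw [map_smul, hβo i j hj.symm, smul_zero]) (by simp), map_smul,
        smul_eq_mul, mul_comm]
    rw [← List.sum_toFinset _ (List.nodup_finRange _), List.toFinset_finRange]
    simp only [← hz, w]
    rw [← Finset.sum_congr rfl fun i _ => smul_assoc (β.repr ((T v)⁻¹ * polar T v x) i) (β i) v, ← Finset.sum_smul,
      β.sum_repr]

/-- The class of an element is the norm of its class over the big field. -/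
theorem Spn.res (h2 : (2 : F) ≠ 0) {T : QuadraticForm K U} {g : U ≃ₗ[K] U} {d : K} (hg : Spn T g d) :
    Spn ((Algebra.trace F K).compQuadraticMap' T) (g.restrictScalars F) (Algebra.norm F d) := by
  classical
  obtain ⟨D, hD, hD'⟩ := res_refl (F := F) (K := K) (U := U) h2
  obtain ⟨vs, h1, he, hs, rfl⟩ := hg
  obtain ⟨ws, w1, w2, w3, w4⟩ : ∃ ws : List U, (∀ w ∈ ws, (Algebra.trace F K).compQuadraticMap' T w ≠ 0) ∧
      ws.length = vs.length * Module.finrank F K ∧
      IsSquare (D ^ vs.length * Algebra.norm F (vs.map fun v => T v).prod *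
        (ws.map fun w => (Algebra.trace F K).compQuadraticMap' T w).prod) ∧
      (prodRf ((Algebra.trace F K).compQuadraticMap' T) ws).1 = (prodRf T vs).1.restrictScalars F := by
    clear he hs
    induction vs with
    | nil => exact ⟨[], by simp, by simp, by simp, LinearEquiv.ext fun x => by simp [prodRf_nil]⟩
    | cons v vs ih =>
      obtain ⟨ws, w1, w2, w3, w4⟩ := ih fun x hx => h1 x (List.mem_cons_of_mem _ hx)
      obtain ⟨us, u1, u2, u3, u4⟩ := hD' T v (h1 v List.mem_cons_self)
      refine ⟨us ++ ws, fun x hx => (List.mem_append.1 hx).elim (u1 x) (w1 x), ?_, ?_, ?_⟩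
      · rw [List.length_append, u2, w2, List.length_cons]; ring
      · rw [List.map_append, List.prod_append, List.map_cons, List.prod_cons, map_mul, List.length_cons]
        have := u3.mul w3
        convert this using 1
        all_goals first | ring | rfl | simp [pow_succ, mul_comm, mul_left_comm, mul_assoc]
      · rw [prodRf_append, prodRf_cons]
        refine LinearEquiv.ext fun x => ?_
        change (prodRf _ us).1 ((prodRf _ ws).1 x) = refl T v ((prodRf T vs).1 x)
        rw [u4, w4]; rfl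
  refine ⟨ws, w1, by rw [w2]; exact he.mul_right _, ?_, w4⟩
  have h0 : Algebra.norm F (vs.map fun v => T v).prod ≠ 0 := by
    rw [Algebra.norm_ne_zero_iff]; exact values_ne h1
  have hn : IsSquare (Algebra.norm F d * Algebra.norm F (vs.map fun v => T v).prod) := by
    rw [← map_mul]; exact hs.map _
  refine isSquare_trans h0 hn ?_
  refine (isSquare_mul_iff (he.isSquare_pow D) (pow_ne_zero _ hD)).1 ?_
  convert w3 using 1
  ring

/-! ### The elliptic torus -/

/-- The generator of the elliptic torus has non-square class. -/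
theorem torus_minus (h2 : (2 : F) ≠ 0)
    (hab : ∀ z₁ z₂ : F, z₁ ^ 2 + a * z₁ * z₂ + b * z₂ ^ 2 = 0 → z₁ = 0 ∧ z₂ = 0) {d : ℕ} (hd : 1 ≤ d) :
    ∃ g e, ¬ IsSquare e ∧ Spn (ellQ (d - 1) a b) g e ∧ orderOf g = Fintype.card F ^ d + 1 := by
  classical
  obtain ⟨p, hp⟩ := CharP.exists F
  haveI := hp
  haveI : Fact p.Prime := ⟨CharP.char_is_prime F p⟩
  haveI : NeZero d := ⟨by omega⟩
  let K := FiniteField.Extension F p d
  have hK : Module.finrank F K = d := FiniteField.finrank_extension F p d
  haveI : Module.Finite F K := Module.finite_of_finrank_eq_succ (n := d - 1) (by omega)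
  haveI : Finite K := Module.finite_of_finite F
  letI := Fintype.ofFinite K
  have h2K : (2 : K) ≠ 0 := by
    rw [← map_ofNat (algebraMap F K)]
    exact (map_ne_zero _).2 h2
  obtain ⟨a', c', hac⟩ := QuadModels.exists_aniso (F := K)
  haveI := OPlane.cyclic_rots hac
  obtain ⟨ρ, hρ⟩ := IsCyclic.exists_generator (α := ↥(OPlane.rots a' c'))
  set q := Fintype.card F
  have hcK : Fintype.card K = q ^ d := by rw [Module.card_eq_pow_finrank (K := F), hK]
  have hc : Nat.card ↥(OPlane.rots a' c') = q ^ d + 1 := by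
    have h := (OPlane.rots a' c').card_mul_index
    rw [OPlane.index_rots hac, OCount.card_GO_minus 0 a' c' hac] at h
    simp [hcK, -Nat.card_eq_fintype_card] at h
    omega
  have hord : orderOf ρ = q ^ d + 1 := by rw [orderOf_eq_card_of_forall_mem_zpowers hρ, hc]
  let T : QuadraticForm K ((Fin 0 ⊕ Fin 0) ⊕ Fin 2 → K) :=
    OOmega.formOf 0 (Equiv.refl _) (OCount.planeForm a' c')
  have hT : ⇑T = Cfsg.quadFormMinus 0 K a' c' := OOmega.coe_minus 0 a' c'
  have hTp : PND T := OOmega.formOf_pnd (OOmega.pnd_plane hac)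
  let e₁ : ↥(Cfsg.isometryGroup K (Cfsg.quadFormMinus 0 K a' c')) ≃* ↥(Cfsg.isometryGroup K ⇑T) :=
    MulEquiv.subgroupCongr (by rw [hT])
  let φ : ↥(OPlane.rots a' c') →* ↥(Iso T) :=
    ((toMat T).symm.toMonoidHom.comp e₁.toMonoidHom).comp (OPlane.rots a' c').subtype
  have hφinj : Function.Injective φ :=
    ((toMat T).symm.injective.comp e₁.injective).comp Subtype.val_injective
  have hφ : ∀ (g : ↥(OPlane.rots a' c')) z, (φ g).1 z = g.1.1.1 *ᵥ z := fun g z => by
    rw [← toMat_apply (φ g) z]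
    simp only [φ, MonoidHom.comp_apply, MulEquiv.coe_toMonoidHom, MulEquiv.apply_symm_apply]
    rfl
  have hfree : ∀ (g : ↥(OPlane.rots a' c')) z, (φ g).1 z = z → z ≠ 0 → g = 1 := by
    intro g z hgz hz
    obtain ⟨u, v, huv, hg⟩ := g.2
    rw [hφ, hg, OPlane.rot] at hgz
    have e0 := congrFun hgz (.inr 0)
    have e1 := congrFun hgz (.inr 1)
    rw [(OPlane.mulVec_m2 u (-(c' * v)) v (u + a' * v) z).1] at e0
    rw [(OPlane.mulVec_m2 u (-(c' * v)) v (u + a' * v) z).2] at e1
    have hN : (u - 1) ^ 2 + a' * (u - 1) * v + c' * v ^ 2 = 0 := by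
      by_contra hN
      refine hz (funext fun i => ?_)
      rcases i with (i | i) | i
      · exact i.elim0
      · exact i.elim0
      · fin_cases i
        · exact (mul_eq_zero.1 (show ((u - 1) ^ 2 + a' * (u - 1) * v + c' * v ^ 2) * z (.inr 0) = 0 by
            linear_combination (u - 1 + a' * v) * e0 + c' * v * e1)).resolve_left hN
        · exact (mul_eq_zero.1 (show ((u - 1) ^ 2 + a' * (u - 1) * v + c' * v ^ 2) * z (.inr 1) = 0 by
            linear_combination -v * e0 + (u - 1) * e1)).resolve_left hN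
    obtain ⟨hu, hv⟩ := hac _ _ hN
    refine Subtype.ext (Subtype.ext (Units.ext ?_))
    rw [hg, sub_eq_zero.1 hu, hv, OPlane.rot]
    simp only [mul_zero, neg_zero, add_zero]
    exact OPlane.m2_one
  have hρ1 : ρ ≠ 1 := fun h => by
    rw [h, orderOf_one] at hord
    have : 1 ≤ q ^ d := Nat.one_le_pow _ _ Fintype.card_pos
    omega
  have hU : finrank K ((Fin 0 ⊕ Fin 0) ⊕ Fin 2 → K) = 2 := by simp
  -- the class over the big field
  obtain ⟨vs, h1, hvs⟩ := exists_list hTp (two_ne h2K) (φ ρ)
  have heven : Even vs.length := by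
    rw [← even_rank_iff hTp vs h1, hvs]
    have hker : LinearMap.ker (((φ ρ).1 : Module.End K ((Fin 0 ⊕ Fin 0) ⊕ Fin 2 → K)) - 1) = ⊥ := by
      refine LinearMap.ker_eq_bot'.2 fun z hz => ?_
      by_contra hz0
      refine hρ1 (hfree ρ z ?_ hz0)
      simpa [sub_eq_zero] using hz
    have := LinearMap.finrank_range_add_finrank_ker (((φ ρ).1 : Module.End K ((Fin 0 ⊕ Fin 0) ⊕ Fin 2 → K)) - 1)
    rw [hker, finrank_bot, add_zero, hU] at this
    rw [this]; exact even_two
  have hPns : ¬ IsSquare (vs.map fun v => T v).prod := fun hsq => by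
    have hmem : φ ρ ∈ commutator ↥(Iso T) := hvs ▸ (mem_commutator_iff hTp vs h1).2 ⟨heven, hsq⟩
    have hidx := (commutator ↥(Iso T)).card_mul_index
    have hiso : Nat.card ↥(Iso T) = 2 * (q ^ d + 1) := by
      rw [Nat.card_congr (toMat T).toEquiv, Nat.card_congr e₁.symm.toEquiv, OCount.card_GO_minus 0 a' c' hac]
      simp [hcK]
    haveI : Finite ↥(Iso T) := Nat.finite_of_card_ne_zero (by rw [hiso]; omega)
    rw [index_commutator h2K hTp (by rw [hU]), hiso] at hidx
    have hle := Nat.le_of_dvd Nat.card_pos ((Subgroup.orderOf_mk (φ ρ) hmem) ▸ orderOf_dvd_natCard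
      (⟨φ ρ, hmem⟩ : ↥(commutator ↥(Iso T))))
    rw [orderOf_injective φ hφinj, hord] at hle
    omega
  have hspnK : Spn T (φ ρ).1 (vs.map fun v => T v).prod :=
    ⟨vs, h1, heven, IsSquare.mul_self _, congrArg Subtype.val hvs⟩
  have hspn := hspnK.res (F := F) h2
  set W : QuadraticForm F ((Fin 0 ⊕ Fin 0) ⊕ Fin 2 → K) := (Algebra.trace F K).compQuadraticMap' T with hW
  have hWp : PND W := fun v hv => hTp v fun w => by
    have h : ∀ k : K, Algebra.traceForm F K (polar T v w) k = 0 := fun k => by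
      have := hv (k • w)
      rw [hW, LinearMap.compQuadraticMap_polar, polar_smul_right, smul_eq_mul, mul_comm] at this
      rw [Algebra.traceForm_apply]
      exact this
    exact (traceForm_nondegenerate F K).1 _ h
  have hdim : Module.finrank F ((Fin 0 ⊕ Fin 0) ⊕ Fin 2 → K) = 2 * d := by
    rw [Module.finrank_pi_fintype, Finset.sum_const, hK]
    simp
  -- the order over the small field
  let act : ↥(OPlane.rots a' c') →* (((Fin 0 ⊕ Fin 0) ⊕ Fin 2 → K) ≃ₗ[F] ((Fin 0 ⊕ Fin 0) ⊕ Fin 2 → K)) :=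
    MonoidHom.mk' (fun g => (φ g).1.restrictScalars F) fun g g' => LinearEquiv.ext fun x => by simp
  have hinj : Function.Injective act := fun g g' h => hφinj (Subtype.ext (LinearEquiv.ext fun x =>
    (DFunLike.congr_fun h x : _)))
  let e₀ : (Fin (2 * d) → F) ≃ₗ[F] ((Fin 0 ⊕ Fin 0) ⊕ Fin 2 → K) :=
    (Module.finBasisOfFinrankEq F _ hdim).equivFun.symm
  let W₀ : QuadraticForm F (Fin (2 * d) → F) := W.comp e₀.toLinearMap
  have hW₀p : PND W₀ := fun v hv => by
    refine e₀.injective ((hWp (e₀ v) fun w => ?_).trans (map_zero e₀).symm)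
    have := hv (e₀.symm w)
    simpa [W₀, polar, QuadraticMap.comp_apply] using this
  have hcard₀ : Nat.card {v // W₀ v = 1} = Nat.card {z // W z = 1} :=
    Nat.card_congr (e₀.toEquiv.subtypeEquiv fun v => Iff.rfl)
  rcases OrthogonalPrimeClasses.even_count W₀ hd (by simp) hW₀p a b hab with ⟨-, hcount⟩ | ⟨⟨L₀, hL₀⟩, -⟩
  · exfalso
    have hpres : ∀ g z, W (act g z) = W z := fun g z => congrArg (Algebra.trace F K) ((φ g).2 z)
    letI : MulAction ↥(OPlane.rots a' c') {z // W z = 1} :=
      { smul := fun g z => ⟨act g z.1, by rw [hpres]; exact z.2⟩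
        one_smul := fun z => Subtype.ext (by change act 1 z.1 = z.1; rw [map_one]; rfl)
        mul_smul := fun g h z => Subtype.ext (by change act (g * h) z.1 = act g (act h z.1); rw [map_mul]; rfl) }
    have hdvd : q ^ d + 1 ∣ Nat.card {z // W z = 1} := by
      rw [← hc]
      refine ⟨Nat.card (MulAction.orbitRel.Quotient ↥(OPlane.rots a' c') {z // W z = 1}), ?_⟩
      have hst : ∀ z : {z // W z = 1}, MulAction.stabilizer ↥(OPlane.rots a' c') z = ⊥ := fun z =>
        (Subgroup.eq_bot_iff_forall _).2 fun g hg => hfree g z.1 (congrArg Subtype.val hg) fun h =>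
          one_ne_zero (z.2.symm.trans (by rw [h, QuadraticMap.map_zero]))
      rw [Nat.card_congr (MulAction.selfEquivOrbitsQuotientProd hst), Nat.card_prod, mul_comm]
    rw [← hcard₀, hcount] at hdvd
    have hq2 : 2 ≤ q := Fintype.one_lt_card
    have hco : (q ^ d + 1).Coprime (q ^ (d - 1)) := by
      refine Nat.Coprime.pow_right _ ?_
      obtain ⟨k, hk⟩ := dvd_pow_self q (show d ≠ 0 by omega)
      rw [hk, Nat.coprime_comm, mul_comm]
      simpa using (Nat.coprime_mul_left_add_right q 1 k).2 (Nat.coprime_one_right q)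
    have h1 : 0 < q ^ d - 1 := Nat.sub_pos_of_lt (Nat.one_lt_pow (by omega) hq2)
    have := Nat.le_of_dvd h1 (hco.dvd_of_dvd_mul_right hdvd)
    omega
  · obtain ⟨L', hL'⟩ := sim_minus (F := F) (d - 1) a b
    let L := L₀.trans e₀
    have hL : ∀ v, W (L v) = Cfsg.quadFormMinus (d - 1) F a b v := fun v => hL₀ v
    refine ⟨conjL (L.symm.trans L') (act ρ), _, norm_nonsquare h2 hPns, ?_, ?_⟩
    · refine hspn.sim (L.symm.trans L') one_ne_zero fun x => ?_
      rw [LinearEquiv.trans_apply, coe_ellQ, hL', ← hL, L.apply_symm_apply, one_mul]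
    · rw [orderOf_injective _ (conjL_injective _), orderOf_injective _ hinj, hord]

/-! ### Minus one on a plane -/

theorem neg_plane {V : Type*} [AddCommGroup V] [Module F V] [FiniteDimensional F V] (Q : QuadraticForm F V)
    {u w : V} (hu : Q u ≠ 0) (hw : Q w ≠ 0) (huw : polar Q u w = 0) (hspan : ∀ x, ∃ s t : F, x = s • u + t • w) :
    Spn Q (LinearEquiv.neg F) (Q u * Q w) := by
  refine ⟨[u, w], by simp [hu, hw], ⟨1, rfl⟩, by simp, LinearEquiv.ext fun x => ?_⟩
  obtain ⟨s, t, rfl⟩ := hspan x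
  rw [prodRf_pair]
  change refl Q u (refl Q w (s • u + t • w)) = -(s • u + t • w)
  rw [map_add, map_smul, map_smul, refl_self hw, refl_fix (show polar Q w u = 0 by rw [polar_comm]; exact huw),
    map_add, map_smul, map_smul, map_neg, refl_self hu, refl_fix huw]
  module

theorem neg_ne_one {V : Type*} [AddCommGroup V] [Module F V] [Nontrivial V] (h2 : (2 : F) ≠ 0) :
    orderOf (LinearEquiv.neg F : V ≃ₗ[F] V) = 2 := by
  haveI : Fact (Nat.Prime 2) := ⟨Nat.prime_two⟩
  refine orderOf_eq_prime (LinearEquiv.ext fun x => by rw [pow_two]; simp) fun h => ?_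
  obtain ⟨x, hx⟩ := exists_ne (0 : V)
  have h1 := DFunLike.congr_fun h x
  simp only [LinearEquiv.neg_apply, LinearEquiv.coe_one, id_eq] at h1
  refine hx ((smul_eq_zero.1 (show (2 : F) • x = 0 from ?_)).resolve_left h2)
  rw [two_smul]
  nth_rewrite 1 [← h1]
  exact neg_add_cancel x

/-- Minus one on the two planes: the classes differ. -/
theorem neg_planes (h2 : (2 : F) ≠ 0)
    (hab : ∀ z₁ z₂ : F, z₁ ^ 2 + a * z₁ * z₂ + b * z₂ ^ 2 = 0 → z₁ = 0 ∧ z₂ = 0) :
    ∃ dh de : F, dh ≠ 0 ∧ de ≠ 0 ∧ ¬ IsSquare (dh * de) ∧ HasCls (hypQ F 1) dh 2 ∧ HasCls (ellQ 0 a b) de 2 := by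
  have hd : ¬ IsSquare (a / 2 * (a / 2) - b) := by
    rintro ⟨r, hr⟩
    exact one_ne_zero (hab (-(a / 2) + r) 1 (by rw [complete_square h2, hr, sub_self])).2
  refine ⟨-1, b - a / 2 * (a / 2), neg_ne_zero.2 one_ne_zero, fun h => hd ⟨0, by linear_combination -h⟩,
    by rwa [show -1 * (b - a / 2 * (a / 2)) = a / 2 * (a / 2) - b by ring], ?_, ?_⟩
  · have h := neg_plane (hypQ F 1) (u := (fun _ => 1, fun _ => 1)) (w := (fun _ => 1, fun _ => -1))
      (by simp [coe_hypQ, hyp]) (by simp [coe_hypQ, hyp]) (by simp [polar, coe_hypQ, hyp])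
      fun x => ⟨(x.1 0 + x.2 0) / 2, (x.1 0 - x.2 0) / 2, by
        refine Prod.ext (funext fun i => ?_) (funext fun i => ?_) <;>
          simp [Fin.eq_zero i] <;> field_simp <;> ring⟩
    rw [show hypQ F 1 (fun _ => 1, fun _ => 1) * hypQ F 1 (fun _ => 1, fun _ => -1) = (-1 : F) by
      simp [coe_hypQ, hyp]] at h
    exact neg_ne_one (V := (Fin 1 → F) × (Fin 1 → F)) h2 ▸ hasCls_order h
  · obtain ⟨L, hL⟩ := sim_ell_zero a b
    have h := neg_plane (nQf a b) (u := (1, 0)) (w := (-(a / 2), 1)) (by simp [coe_nQf, nQ])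
      (by
        simp only [coe_nQf, nQ]; intro h
        have := complete_square h2 a b 0
        rw [add_zero, h] at this
        exact hd ⟨0, by linear_combination this⟩)
      (by simp only [polar, coe_nQf, nQ, Prod.mk_add_mk]; field_simp; ring)
      fun x => ⟨x.1 + a / 2 * x.2, x.2, by
        refine Prod.ext ?_ ?_ <;> simp <;> ring⟩
    rw [show nQf a b (1, 0) * nQf a b (-(a / 2), 1) = b - a / 2 * (a / 2) by
      have := complete_square h2 a b 0
      simp only [coe_nQf, nQ]
      linear_combination this] at h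
    exact (neg_ne_one (V := F × F) h2 ▸ hasCls_order h).sim ⟨L, fun x => by rw [coe_nQf, coe_ellQ, hL]⟩

/-- A translation. -/
theorem hasCls_translation {V : Type*} [AddCommGroup V] [Module F V] [FiniteDimensional F V] [Nontrivial V]
    (Q : QuadraticForm F V) (p : ℕ) [Fact p.Prime] [CharP F p] : HasCls Q 1 p := by
  obtain ⟨v, hv⟩ := exists_ne (0 : V)
  refine ⟨1, v, Spn.one, dvd_of_eq (orderOf_eq_prime ?_ fun h => hv (aff_eq_one h).2).symm⟩
  rw [aff_one_pow, ← Nat.cast_smul_eq_nsmul F, CharP.cast_eq_zero, zero_smul, aff_one]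

/-- An affine regular unipotent element. -/
theorem hasCls_unipotent {V : Type*} [AddCommGroup V] [Module F V] [FiniteDimensional F V] {Q : QuadraticForm F V}
    (hQ : PND Q) (h2 : (2 : F) ≠ 0) {p : ℕ} [Fact p.Prime] [CharP F p] {k : ℕ} (hk : p ^ 1 = 2 * k + 1)
    (hdim : 2 * k + 1 ≤ finrank F V) : HasCls Q 1 (p ^ 2) := by
  obtain ⟨z, hz, hn, ⟨v, -, hv⟩, -, -⟩ :=
    exists_chain (Q := Q) h2 (QuadBasis.nondeg_top Q (QuadModels.nondegenerate hQ)) k (by rwa [finrank_top])
  have hzp : z ^ p ^ 1 = 1 := (pow_eq_one_iff_nilp z 1).2 (hk ▸ hn)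
  refine ⟨z, v, spn_one_of_odd hQ h2 hz (hk ▸ odd_two_mul_add_one k) hzp, ?_⟩
  have := aff_gain (s := 1) (z := z) (m := 1) (v := v) (Commute.one_left z) orderOf_one
    (Fact.out : p.Prime).not_dvd_one hzp rfl (by rw [hk]; simpa using hv)
  simpa using this

end Cfsg.Agent.Lie.OrthNine
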