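import Cfsg.Agent.Lib.Lie.OrthNine.Basic
import Cfsg.Agent.Lib.Small.QuadDisc

/-!
The fixed space of an isometry of order prime to the characteristic, regular unipotent isometries supported in a
nondegenerate subspace, and the orders of affine isometries.
-/

set_option autoImplicit false
set_option linter.unusedSectionVars false

namespace Cfsg.Agent.Lie.OrthNine

open Module QuadraticMap Polynomial Cfsg.Agent.Classical Cfsg.Agent.Classical.OCount Cfsg.Agent.Classical.ORefl
  Cfsg.Agent.Classical.OOmega Cfsg.Agent.Small Cfsg.Agent.Lie.SpEight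

/-- Splitting an element into powers of order prime to `p` and of `p`-power order. -/
theorem exists_split {G : Type*} [Group G] [Finite G] {p : ℕ} (hp : p.Prime) (g : G) :
    ∃ a b m c, ¬ p ∣ m ∧ orderOf g = m * p ^ c ∧ orderOf (g ^ a) = m ∧ orderOf (g ^ b) = p ^ c ∧
      g ^ a * g ^ b = g := by
  obtain ⟨c, m, hm, hn⟩ := Nat.exists_eq_pow_mul_and_not_dvd (orderOf_pos g).ne' p hp.ne_one
  have hco : m.Coprime (p ^ c) := ((hp.coprime_iff_not_dvd.2 hm).pow_left c).symm
  obtain ⟨a, ha1, ha2⟩ := Nat.chineseRemainder hco 1 0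
  obtain ⟨b, hb1, hb2⟩ := Nat.chineseRemainder hco 0 1
  have hn' : orderOf g = m * p ^ c := hn.trans (mul_comm _ _)
  have hpos := orderOf_pos g
  have key : ∀ x : ℕ, orderOf (g ^ x) = m * p ^ c / (Nat.gcd x m * Nat.gcd x (p ^ c)) := fun x => by
    rw [orderOf_pow, hn', Nat.gcd_comm, hco.gcd_mul]
  have g1 : ∀ {x n : ℕ}, x ≡ 1 [MOD n] → Nat.gcd x n = 1 := fun h => by rw [h.gcd_eq, Nat.gcd_one_left]
  have g0 : ∀ {x n : ℕ}, x ≡ 0 [MOD n] → Nat.gcd x n = n := fun h => by rw [h.gcd_eq, Nat.gcd_zero_left]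
  refine ⟨a, b, m, c, hm, hn', ?_, ?_, ?_⟩
  · rw [key, g1 ha1, g0 ha2, one_mul, Nat.mul_div_cancel _ (pow_pos hp.pos c)]
  · rw [key, g0 hb1, g1 hb2, mul_one, Nat.mul_div_cancel_left]
    exact Nat.pos_of_ne_zero fun h => by rw [h, zero_mul] at hn'; omega
  · rw [← pow_add]
    conv_rhs => rw [← pow_one g]
    rw [pow_eq_pow_iff_modEq, hn', ← Nat.modEq_and_modEq_iff_modEq_mul hco]
    exact ⟨by simpa using ha1.add hb1, by simpa using ha2.add hb2⟩

theorem cast_ne (F : Type*) [Field F] {p : ℕ} [CharP F p] {m : ℕ} (h : ¬ p ∣ m) : (m : F) ≠ 0 :=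
  fun e => h ((CharP.cast_eq_zero_iff F p m).1 e)

variable {F : Type*} [Field F] {V : Type*} [AddCommGroup V] [Module F V] [FiniteDimensional F V]
  {Q : QuadraticForm F V}

theorem coe_pow' (g : V ≃ₗ[F] V) : ∀ (n : ℕ) (x : V), (((g : Module.End F V)) ^ n) x = (g ^ n) x
  | 0, x => rfl
  | n + 1, x => by rw [pow_succ', pow_succ', Module.End.mul_apply, coe_pow' g n]; rfl

/-! ### Fixed space -/

/-- The fixed space. -/
def fixSp (s : V ≃ₗ[F] V) : Submodule F V := LinearMap.ker ((s : Module.End F V) - 1)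

theorem mem_fixSp {s : V ≃ₗ[F] V} {x : V} : x ∈ fixSp s ↔ s x = x := by
  rw [fixSp, LinearMap.mem_ker, LinearMap.sub_apply, sub_eq_zero]; rfl

theorem fix_pow {s : V ≃ₗ[F] V} {x : V} (h : s x = x) : ∀ n : ℕ, (s ^ n) x = x
  | 0 => rfl
  | n + 1 => by rw [pow_succ, LinearEquiv.mul_apply, h, fix_pow h n]

/-- The average over the powers. -/
noncomputable def avg (s : V ≃ₗ[F] V) (m : ℕ) : Module.End F V :=
  (m : F)⁻¹ • ∑ i ∈ Finset.range m, ((s ^ i : V ≃ₗ[F] V) : Module.End F V)

theorem avg_apply (s : V ≃ₗ[F] V) (m : ℕ) (x : V) :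
    avg s m x = (m : F)⁻¹ • ∑ i ∈ Finset.range m, (s ^ i) x := by
  rw [avg, LinearMap.smul_apply, LinearMap.sum_apply]; rfl

variable {s : V ≃ₗ[F] V} {m : ℕ}

theorem avg_fix (hm : s ^ m = 1) (x : V) : s (avg s m x) = avg s m x := by
  rw [avg_apply, map_smul, map_sum]
  congr 1
  have h1 := Finset.sum_range_succ' (fun i => (s ^ i) x) m
  rw [Finset.sum_range_succ, hm, pow_zero] at h1
  have := add_right_cancel h1
  rw [this]
  simp only [pow_succ', LinearEquiv.mul_apply]

theorem avg_of_fix (hm0 : (m : F) ≠ 0) {x : V} (hx : s x = x) : avg s m x = x := by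
  rw [avg_apply, Finset.sum_congr rfl fun i _ => fix_pow hx i, Finset.sum_const, Finset.card_range,
    ← Nat.cast_smul_eq_nsmul F, smul_smul, inv_mul_cancel₀ hm0, one_smul]

theorem avg_comm {u : V ≃ₗ[F] V} (hu : Commute u s) (x : V) : avg s m (u x) = u (avg s m x) := by
  rw [avg_apply, avg_apply, map_smul, map_sum]
  congr 1
  refine Finset.sum_congr rfl fun i _ => ?_
  rw [← LinearEquiv.mul_apply, ← (hu.pow_right i).eq, LinearEquiv.mul_apply]

theorem avg_perp (hs : s ∈ Iso Q) (hm0 : (m : F) ≠ 0) {w : V} (hw : s w = w) (x : V) :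
    polar Q (x - avg s m x) w = 0 := by
  have h1 : ∀ i : ℕ, polar Q ((s ^ i) x) w = polar Q x w := fun i => by
    conv_lhs => rw [← fix_pow hw i]
    rw [polar_iso (pow_mem hs i)]
  have h2 : polar Q (∑ i ∈ Finset.range m, (s ^ i) x) w = ∑ i ∈ Finset.range m, polar Q ((s ^ i) x) w := by
    simp [← polarBilin_apply_apply, map_sum]
  rw [polar_sub_left, avg_apply, polar_smul_left, h2]
  simp only [polarBilin_apply_apply, h1, Finset.sum_const, Finset.card_range, nsmul_eq_mul, smul_eq_mul]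
  rw [inv_mul_cancel_left₀ hm0, sub_self]

theorem fixSp_nondeg (hQ : PND Q) (hs : s ∈ Iso Q) (hm : s ^ m = 1) (hm0 : (m : F) ≠ 0) :
    QuadBasis.Nondeg Q (fixSp s) := fun x hx h => hQ x fun y => by
  have h1 := avg_perp hs hm0 (mem_fixSp.1 hx) y
  rw [polar_sub_left, sub_eq_zero] at h1
  rw [polar_comm, h1, polar_comm]
  exact h _ (mem_fixSp.2 (avg_fix hm y))

theorem q_split (hs : s ∈ Iso Q) (hm : s ^ m = 1) (hm0 : (m : F) ≠ 0) (x : V) :
    Q x = Q (x - avg s m x) + Q (avg s m x) := by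
  conv_lhs => rw [← sub_add_cancel x (avg s m x)]
  rw [QuadraticMap.map_add Q, avg_perp hs hm0 (avg_fix hm x), add_zero]

theorem avg_rest (hm : s ^ m = 1) (hm0 : (m : F) ≠ 0) {u : V ≃ₗ[F] V} (hu : Commute u s) (x : V) :
    avg s m (u (x - avg s m x) + avg s m x) = avg s m x := by
  rw [map_add, avg_comm hu, map_sub, avg_of_fix hm0 (avg_fix hm x), sub_self, map_zero, zero_add]

/-- The linear map equal to `u` on the moved space and to the identity on the fixed space. -/
noncomputable def restMap (s : V ≃ₗ[F] V) (m : ℕ) (u : V ≃ₗ[F] V) : Module.End F V :=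
  (u : Module.End F V) * (1 - avg s m) + avg s m

theorem restMap_apply (u : V ≃ₗ[F] V) (x : V) : restMap s m u x = u (x - avg s m x) + avg s m x := rfl

theorem exists_rest (hs : s ∈ Iso Q) (hm : s ^ m = 1) (hm0 : (m : F) ≠ 0) {u : V ≃ₗ[F] V} (hu : u ∈ Iso Q)
    (hus : Commute u s) :
    ∃ r : V ≃ₗ[F] V, r ∈ Iso Q ∧ Commute r s ∧
      ∀ (n : ℕ) x, (r ^ n) x = (u ^ n) (x - avg s m x) + avg s m x := by
  have hinv : ∀ v v' : V ≃ₗ[F] V, Commute v' s → v * v' = 1 → ∀ x, restMap s m v (restMap s m v' x) = x := by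
    intro v v' hc h x
    rw [restMap_apply, restMap_apply, avg_rest hm hm0 hc, add_sub_cancel_right, ← LinearEquiv.mul_apply, h,
      LinearEquiv.coe_one, id, sub_add_cancel]
  let r : V ≃ₗ[F] V := LinearEquiv.ofLinear (restMap s m u) (restMap s m u⁻¹)
    (LinearMap.ext fun x => hinv u u⁻¹ hus.inv_left (mul_inv_cancel u) x)
    (LinearMap.ext fun x => hinv u⁻¹ u hus (inv_mul_cancel u) x)
  have hr : ∀ x, r x = u (x - avg s m x) + avg s m x := fun x => rfl
  refine ⟨r, fun x => ?_, LinearEquiv.ext fun x => ?_, fun n => ?_⟩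
  · rw [q_split hs hm hm0 x, hr, QuadraticMap.map_add Q, hu]
    have : avg s m (u (x - avg s m x)) = 0 := by
      rw [avg_comm hus, map_sub, avg_of_fix hm0 (avg_fix hm x), sub_self, map_zero]
    have h2 := avg_perp hs hm0 (avg_fix hm x) (u (x - avg s m x))
    rw [this, sub_zero] at h2
    rw [h2, add_zero]
  · rw [LinearEquiv.mul_apply, LinearEquiv.mul_apply, hr, hr, avg_comm (Commute.refl s), avg_fix hm, map_add,
      avg_fix hm]
    congr 1
    rw [← LinearEquiv.mul_apply s u, ← hus.eq, LinearEquiv.mul_apply, map_sub s, avg_fix hm]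
  · induction n with
    | zero => intro x; simp
    | succ n ih =>
      intro x
      rw [pow_succ', LinearEquiv.mul_apply, ih, hr, avg_rest hm hm0 (hus.pow_left n), add_sub_cancel_right,
        pow_succ', LinearEquiv.mul_apply]

/-! ### Polynomial identities in characteristic `p` -/

variable {p : ℕ} [Fact p.Prime] [CharP F p]

theorem sub_one_pow_char (f : Module.End F V) (j : ℕ) : (f - 1) ^ p ^ j = f ^ p ^ j - 1 := by
  have h := congrArg (aeval f) (sub_pow_char_pow (X : F[X]) 1 (n := j) (p := p))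
  simpa using h

theorem sum_pow_char (f : Module.End F V) (j : ℕ) :
    ∑ i ∈ Finset.range (p ^ j), f ^ i = (f - 1) ^ (p ^ j - 1) := by
  have hX : (X - 1 : F[X]) ≠ 0 := X_sub_C_ne_zero (1 : F)
  have h : ∑ i ∈ Finset.range (p ^ j), (X : F[X]) ^ i = (X - 1) ^ (p ^ j - 1) := by
    refine mul_right_cancel₀ hX ?_
    rw [geom_sum_mul, ← pow_succ, Nat.sub_add_cancel (Nat.one_le_pow _ _ (Fact.out : p.Prime).pos),
      sub_pow_char_pow, one_pow]
  simpa [map_sum] using congrArg (aeval f) h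

theorem pow_eq_one_iff_nilp (g : V ≃ₗ[F] V) (j : ℕ) :
    g ^ p ^ j = 1 ↔ ((g : Module.End F V) - 1) ^ p ^ j = 0 := by
  rw [sub_one_pow_char, sub_eq_zero]
  constructor
  · intro h
    refine LinearMap.ext fun x => ?_
    rw [coe_pow', h]; rfl
  · intro h
    refine LinearEquiv.ext fun x => ?_
    rw [← coe_pow', h]; rfl

/-- A nilpotent map that is nonzero at the `k`-th power on an invariant subspace needs dimension above `k`. -/
theorem lt_finrank_of_nilp {N : Module.End F V} {W : Submodule F V} (hW : ∀ x ∈ W, N x ∈ W) {k t : ℕ}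
    (hN : N ^ t = 0) {x : V} (hx : x ∈ W) (hk : (N ^ k) x ≠ 0) : k < finrank F W := by
  by_contra hle
  push Not at hle
  set f : Module.End F W := N.restrict hW with hf
  have hval : ∀ (n : ℕ) (y : W), ((f ^ n) y : V) = (N ^ n) y := by
    intro n
    induction n with
    | zero => intro y; rfl
    | succ n ih =>
      intro y
      rw [pow_succ', pow_succ', Module.End.mul_apply, Module.End.mul_apply, ← ih]
      rfl
  have h1 : LinearMap.ker (f ^ (max t (finrank F W))) = ⊤ := by
    refine LinearMap.ker_eq_top.2 (LinearMap.ext fun y => Subtype.ext ?_)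
    rw [hval, pow_eq_zero_of_le (le_max_left _ _) hN]; rfl
  rw [Module.End.ker_pow_eq_ker_pow_finrank_of_le (le_max_right _ _), LinearMap.ker_eq_top] at h1
  refine hk ?_
  have := hval k ⟨x, hx⟩
  rw [pow_eq_zero_of_le hle h1] at this
  exact this.symm

/-! ### Orders of affine isometries -/

theorem aff_one_pow (w : V) (n : ℕ) : aff (1 : V ≃ₗ[F] V) w ^ n = aff (1 : V ≃ₗ[F] V) (n • w) := by
  rw [aff_pow]; simp

theorem sum_range_mul_periodic {M : Type*} [AddCommMonoid M] (f : ℕ → M) (n : ℕ) (hf : ∀ i, f (n + i) = f i) :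
    ∀ k : ℕ, ∑ i ∈ Finset.range (k * n), f i = k • ∑ i ∈ Finset.range n, f i
  | 0 => by simp
  | k + 1 => by
    rw [Nat.add_mul, one_mul, add_comm, Finset.sum_range_add, Finset.sum_congr rfl fun i _ => hf i,
      sum_range_mul_periodic f n hf k, succ_nsmul']

theorem sum_periodic_char {z : V ≃ₗ[F] V} {j : ℕ} (hz : z ^ p ^ j = 1) (m : ℕ) (v : V) :
    ∑ i ∈ Finset.range (m * p ^ j), (z ^ i) v = m • (((z : Module.End F V) - 1) ^ (p ^ j - 1)) v := by
  rw [sum_range_mul_periodic (fun i => (z ^ i) v) _ (fun i => by rw [pow_add, hz, one_mul]), ← sum_pow_char,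
    LinearMap.sum_apply]
  simp only [coe_pow']

/-- Gaining a factor `p`. -/
theorem aff_gain {z : V ≃ₗ[F] V} (hc : Commute s z) (hm : orderOf s = m) (hm0 : ¬ p ∣ m) {j : ℕ}
    (hz : z ^ p ^ j = 1) {v : V} (hv : s v = v)
    (hT : (((z : Module.End F V) - 1) ^ (p ^ j - 1)) v ≠ 0) : m * p ^ (j + 1) ∣ orderOf (aff (s * z) v) := by
  have hp := (Fact.out : p.Prime)
  set T := (((z : Module.End F V) - 1) ^ (p ^ j - 1)) v with hTdef
  have hco : (orderOf s).Coprime (orderOf z) := by
    rw [hm]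
    exact Nat.Coprime.coprime_dvd_right (orderOf_dvd_of_pow_eq_one hz)
      ((hp.coprime_iff_not_dvd.2 hm0).symm.pow_right j)
  have hord : m ∣ orderOf (aff (s * z) v) := by
    refine dvd_trans ?_ (orderOf_dvd_aff _ _)
    rw [hc.orderOf_mul_eq_mul_orderOf_of_coprime hco, hm]
    exact dvd_mul_right _ _
  have hpow : aff (s * z) v ^ (m * p ^ j) = aff (1 : V ≃ₗ[F] V) (m • T) := by
    rw [aff_pow]
    congr 1
    · rw [hc.mul_pow, pow_mul, ← hm, pow_orderOf_eq_one, one_pow, one_mul, mul_comm, pow_mul, hz, one_pow]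
    · rw [hTdef, ← sum_periodic_char hz]
      refine Finset.sum_congr rfl fun i _ => ?_
      rw [(hc.symm).mul_pow i |> fun h => show (s * z) ^ i = z ^ i * s ^ i by rw [hc.eq, h],
        LinearEquiv.mul_apply, fix_pow hv]
  have hne : aff (s * z) v ^ (m * p ^ j) ≠ 1 := by
    rw [hpow]
    intro h
    have := (aff_eq_one h).2
    rw [← Nat.cast_smul_eq_nsmul F, smul_eq_zero] at this
    exact hT (this.resolve_left (cast_ne F hm0))
  have hone : aff (s * z) v ^ (m * p ^ (j + 1)) = 1 := by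
    rw [pow_succ, ← mul_assoc, pow_mul, hpow, aff_one_pow, smul_smul, mul_comm, mul_smul,
      ← Nat.cast_smul_eq_nsmul F p, CharP.cast_eq_zero, zero_smul, smul_zero, aff_one]
  obtain ⟨k, hk⟩ := hord
  have hdvd := orderOf_dvd_of_pow_eq_one hone
  have hndvd : ¬ orderOf (aff (s * z) v) ∣ m * p ^ j := fun h => hne (orderOf_dvd_iff_pow_eq_one.1 h)
  have hm' : 0 < m := Nat.pos_of_ne_zero fun h => hm0 (h ▸ dvd_zero p)
  rw [hk, Nat.mul_dvd_mul_iff_left hm'] at hdvd hndvd
  obtain ⟨i, hi, rfl⟩ := (Nat.dvd_prime_pow hp).1 hdvd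
  rw [hk]
  refine mul_dvd_mul_left m (Nat.pow_dvd_pow p ?_)
  by_contra hlt
  exact hndvd (Nat.pow_dvd_pow p (by omega))

/-- The order of an affine isometry over `g`. -/
theorem aff_bound {g u : V ≃ₗ[F] V} (hm : s ^ m = 1) (hm0 : (m : F) ≠ 0) (hsu : s * u = g) (hc : Commute s u)
    {a c : ℕ} (ha : g ^ a = s) (hu : u ^ p ^ c = 1) (v : V) :
    orderOf (aff g v) ∣ m * p ^ (c + 1) ∧
      ((∀ x, s x = x → (((u : Module.End F V) - 1) ^ (p ^ c - 1)) x = 0) → orderOf (aff g v) ∣ m * p ^ c) := by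
  have hgn : g ^ (m * p ^ c) = 1 := by
    rw [← hsu, hc.mul_pow, pow_mul, hm, one_pow, one_mul, mul_comm, pow_mul, hu, one_pow]
  set T := ∑ i ∈ Finset.range (m * p ^ c), (g ^ i) v with hT
  have hgT : g T = T := by
    have h1 := Finset.sum_range_succ' (fun i => (g ^ i) v) (m * p ^ c)
    rw [Finset.sum_range_succ, hgn, pow_zero] at h1
    rw [hT, map_sum]
    simp only [← LinearEquiv.mul_apply, ← pow_succ']
    exact (add_right_cancel h1).symm
  have hsT : s T = T := ha ▸ fix_pow hgT a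
  have hTeq : T = m • (((u : Module.End F V) - 1) ^ (p ^ c - 1)) (avg s m v) := by
    have hgs : Commute g s := by rw [← hsu]; exact (Commute.refl s).mul_left hc.symm
    rw [← sum_periodic_char hu, ← avg_of_fix hm0 hsT, hT, map_sum]
    refine Finset.sum_congr rfl fun i _ => ?_
    rw [avg_comm (hgs.pow_left i), ← hsu, hc.eq, hc.symm.mul_pow, LinearEquiv.mul_apply, fix_pow (avg_fix hm v)]
  have hpow : aff g v ^ (m * p ^ c) = aff (1 : V ≃ₗ[F] V) T := by rw [aff_pow, hgn]
  refine ⟨orderOf_dvd_of_pow_eq_one ?_, fun hW => orderOf_dvd_of_pow_eq_one ?_⟩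
  · rw [pow_succ, ← mul_assoc, pow_mul, hpow, aff_one_pow, ← Nat.cast_smul_eq_nsmul F p, CharP.cast_eq_zero,
      zero_smul, aff_one]
  · rw [hpow, hTeq, hW _ (avg_fix hm v), smul_zero, aff_one]

/-! ### Regular unipotent isometries -/

theorem exists_chain [Fintype F] (h2 : (2 : F) ≠ 0) {W : Submodule F V} (hW : QuadBasis.Nondeg Q W) (k : ℕ)
    (hk : 2 * k + 1 ≤ finrank F W) :
    ∃ z : V ≃ₗ[F] V, z ∈ Iso Q ∧ ((z : Module.End F V) - 1) ^ (2 * k + 1) = 0 ∧
      (∃ v ∈ W, (((z : Module.End F V) - 1) ^ (2 * k)) v ≠ 0) ∧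
      (∀ x, (∀ w ∈ W, polar Q w x = 0) → z x = x) ∧
      ∀ t : V ≃ₗ[F] V, t ∈ Iso Q → (∀ w ∈ W, t w = w) → Commute t z := by
  classical
  -- the frame
  obtain ⟨k', r, hr, hd⟩ : ∃ k' r, (r = 1 ∨ r = 2) ∧ finrank F W = 2 * k' + r := by
    rcases Nat.even_or_odd' (finrank F W) with ⟨t, h | h⟩
    · exact ⟨t - 1, 2, Or.inr rfl, by omega⟩
    · exact ⟨t, 1, Or.inl rfl, h⟩
  obtain ⟨e₀, f₀, W₀, hF, hW₀, hN₀, hd₀, ho⟩ := QuadBasis.exists_frame Q r hr k' W hW hd
  obtain ⟨w, hw, hQw⟩ := QuadBasis.exists_ne_zero_value Q hN₀ (fun h => by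
    rw [h, finrank_bot] at hd₀; omega)
  have hkk : k ≤ k' := by omega
  let e : ℕ → V := fun i => if h : i < k' then e₀ ⟨i, h⟩ else 0
  let f : ℕ → V := fun i => if h : i < k' then f₀ ⟨i, h⟩ else 0
  set c : F := (-1) ^ k * (2 * Q w) with hc
  have hc0 : c ≠ 0 := mul_ne_zero (pow_ne_zero _ (by simp)) (mul_ne_zero h2 hQw)
  let v : ℕ → V := fun i => if i < k then e i else if i = k then w else ((-1) ^ i * c) • f (2 * k - i)
  have he : ∀ i, i < k → ∀ j, j < k → polar Q (e i) (e j) = 0 ∧ polar Q (f i) (f j) = 0 ∧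
      polar Q (e i) (f j) = (if i = j then 1 else 0) ∧ polar Q (f i) (e j) = (if i = j then 1 else 0) ∧
      polar Q (e i) w = 0 ∧ polar Q (f i) w = 0 := by
    intro i hi j hj
    have hi' : i < k' := by omega
    have hj' : j < k' := by omega
    simp only [e, f, dif_pos hi', dif_pos hj']
    refine ⟨hF.ee _ _, hF.ff _ _, ?_, ?_, (ho w hw _).1, (ho w hw _).2⟩
    · rw [hF.ef]; simp [Fin.ext_iff]
    · rw [polar_comm, hF.ef]; simp [Fin.ext_iff, eq_comm]
  have hgram : ∀ i j, i ≤ 2 * k → j ≤ 2 * k → polar Q (v i) (v j) = if i + j = 2 * k then (-1) ^ i * c else 0 := by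
    have hsym : ∀ i j, i + j = 2 * k → (-1 : F) ^ j = (-1) ^ i := fun i j h => by
      have hh : (-1 : F) ^ i * (-1) ^ j = 1 := by rw [← pow_add, h, pow_mul]; simp
      have hii : (-1 : F) ^ i * (-1) ^ i = 1 := by rw [← mul_pow]; simp
      exact mul_left_cancel₀ (pow_ne_zero i (by simp)) (hh.trans hii.symm)
    intro i j hi hj
    simp only [v]
    rcases lt_trichotomy i k with h | h | h <;> rcases lt_trichotomy j k with h' | h' | h'
    · rw [if_pos h, if_pos h', if_neg (by omega), (he i h j h').1]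
    · rw [if_pos h, if_neg (by omega), if_pos h', if_neg (by omega), (he i h i h).2.2.2.2.1]
    · rw [if_pos h, if_neg (by omega), if_neg (by omega), polar_smul_right, smul_eq_mul,
        (he i h (2 * k - j) (by omega)).2.2.1]
      split_ifs with h1 h3
      · rw [mul_one, hsym i j h3]
      all_goals first | (exfalso; omega) | (rw [mul_zero])
    · rw [if_neg (by omega), if_pos h, if_pos h', if_neg (by omega), polar_comm, (he j h' j h').2.2.2.2.1]
    · rw [if_neg (by omega), if_pos h, if_neg (by omega), if_pos h', if_pos (by omega), QuadBasis.p_self, h, hc,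
        ← mul_assoc, ← mul_pow]
      simp
    · rw [if_neg (by omega), if_pos h, if_neg (by omega), if_neg (by omega), if_neg (by omega), polar_smul_right,
        polar_comm, (he (2 * k - j) (by omega) (2 * k - j) (by omega)).2.2.2.2.2, smul_zero]
    · rw [if_neg (by omega), if_neg (by omega), if_pos h', polar_smul_left, smul_eq_mul,
        (he (2 * k - i) (by omega) j h').2.2.2.1]
      split_ifs with h1 h3
      · rw [mul_one]
      all_goals first | (exfalso; omega) | (rw [mul_zero])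
    · rw [if_neg (by omega), if_neg (by omega), if_neg (by omega), if_pos h', if_neg (by omega), polar_smul_left,
        (he (2 * k - i) (by omega) (2 * k - i) (by omega)).2.2.2.2.2, smul_zero]
    · rw [if_neg (by omega), if_neg (by omega), if_neg (by omega), if_neg (by omega), if_neg (by omega),
        polar_smul_left, polar_smul_right, (he (2 * k - i) (by omega) (2 * k - j) (by omega)).2.1, smul_zero, smul_zero]
  have hvW : ∀ i, i ≤ 2 * k → v i ∈ W := fun i hi => by
    simp only [v, e, f]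
    split_ifs with h1 h3
    exacts [hF.he _, (by first | exact W.zero_mem), hW₀ hw, W.smul_mem _ (hF.hf _), W.smul_mem _ W.zero_mem]
  -- the skew map
  let a : ℕ → F := fun i => (-1) ^ i * c⁻¹
  let L : Module.End F V := ∑ i ∈ Finset.range (2 * k), (a i • polarBilin Q (v (2 * k - i))).smulRight (v (i + 1))
  have hL : ∀ x, L x = ∑ i ∈ Finset.range (2 * k), (a i * polar Q (v (2 * k - i)) x) • v (i + 1) := fun x => by
    simp only [L, LinearMap.sum_apply, LinearMap.smulRight_apply, LinearMap.smul_apply, polarBilin_apply_apply,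
      smul_eq_mul]
  have hLv : ∀ j, j ≤ 2 * k → L (v j) = if j < 2 * k then v (j + 1) else 0 := by
    intro j hj
    rw [hL]
    split_ifs with h
    · rw [Finset.sum_eq_single_of_mem j (Finset.mem_range.2 h)]
      · rw [hgram _ _ (by omega) hj, if_pos (by omega)]
        have hh : (-1 : F) ^ (2 * k - j) * (-1) ^ j = 1 := by
          rw [← pow_add, Nat.sub_add_cancel hj, pow_mul]; simp
        rw [show a j * ((-1) ^ (2 * k - j) * c) = ((-1 : F) ^ (2 * k - j) * (-1) ^ j) * (c⁻¹ * c) by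
          simp only [a]; ring, hh, inv_mul_cancel₀ hc0, mul_one, one_smul]
      · intro i hi hij
        rw [Finset.mem_range] at hi
        rw [hgram _ _ (by omega) hj, if_neg (by omega), mul_zero, zero_smul]
    · refine Finset.sum_eq_zero fun i hi => ?_
      rw [Finset.mem_range] at hi
      rw [hgram _ _ (by omega) hj, if_neg (by omega), mul_zero, zero_smul]
  have hLpow : ∀ t j, j ≤ 2 * k → (L ^ t) (v j) = if j + t ≤ 2 * k then v (j + t) else 0 := by
    intro t
    induction t with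
    | zero => intro j hj; simp [hj]
    | succ t ih =>
      intro j hj
      rw [pow_succ', Module.End.mul_apply, ih j hj]
      by_cases h : j + t ≤ 2 * k
      · rw [if_pos h, hLv _ h]
        split_ifs with h1 h3 <;> first | rfl | (exfalso; omega)
      · rw [if_neg h, map_zero, if_neg (by omega)]
  have hnil : L ^ (2 * k + 1) = 0 := LinearMap.ext fun x => by
    rw [pow_succ, Module.End.mul_apply, hL, map_sum, LinearMap.zero_apply]
    refine Finset.sum_eq_zero fun i hi => ?_
    rw [Finset.mem_range] at hi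
    rw [map_smul, hLpow _ _ (by omega), if_neg (by omega), smul_zero]
  have hskew : ∀ x y, polar Q (L x) y = -polar Q x (L y) := fun x y => by
    rw [hL, hL, ← polarBilin_apply_apply (Q := Q), ← polarBilin_apply_apply (Q := Q), map_sum, map_sum,
      LinearMap.sum_apply, ← Finset.sum_range_reflect, ← Finset.sum_neg_distrib]
    refine Finset.sum_congr rfl fun i hi => ?_
    rw [Finset.mem_range] at hi
    simp only [map_smul, LinearMap.smul_apply, polarBilin_apply_apply, smul_eq_mul]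
    rw [show 2 * k - 1 - i + 1 = 2 * k - i by omega, show 2 * k - (2 * k - 1 - i) = i + 1 by omega]
    have hh : (-1 : F) ^ (2 * k - 1 - i) = -(-1) ^ i := by
      have h1 : (-1 : F) ^ (2 * k - 1 - i) * (-1) ^ (i + 1) = 1 := by
        rw [← pow_add, show 2 * k - 1 - i + (i + 1) = 2 * k by omega, pow_mul]; simp
      have h3 : (-(-1 : F) ^ i) * (-1) ^ (i + 1) = 1 := by
        rw [pow_succ, show (-(-1 : F) ^ i) * ((-1) ^ i * -1) = ((-1) ^ i * (-1) ^ i) by ring, ← mul_pow]; simp
      exact mul_right_cancel₀ (pow_ne_zero _ (by simp)) (h1.trans h3.symm)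
    simp only [a, hh]
    rw [polar_comm Q x (v (i + 1))]
    ring
  -- the Cayley transform
  have hu1 : IsUnit (1 - L) := IsNilpotent.isUnit_one_sub ⟨_, hnil⟩
  have hu2 : IsUnit (1 + L) := IsNilpotent.isUnit_one_add ⟨_, hnil⟩
  obtain ⟨A, hA⟩ := hu1
  obtain ⟨B, hB⟩ := hu2
  let z : V ≃ₗ[F] V := LinearMap.GeneralLinearGroup.generalLinearEquiv F V (B * A⁻¹)
  have hz : (z : Module.End F V) = (1 + L) * (A⁻¹ : (Module.End F V)ˣ).1 := by
    rw [← hB]; rfl
  have hzA : ∀ x, z ((1 - L) x) = (1 + L) x := fun x => by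
    change (z : Module.End F V) ((1 - L) x) = _
    rw [hz, ← Module.End.mul_apply, ← hA, mul_assoc, Units.inv_mul, mul_one]
  have hsurj : ∀ x, ∃ y, x = (1 - L) y := fun x => ⟨(A⁻¹ : (Module.End F V)ˣ).1 x, by
    rw [← hA, ← Module.End.mul_apply, Units.mul_inv]; rfl⟩
  have hiso : z ∈ Iso Q := fun x => by
    obtain ⟨y, rfl⟩ := hsurj x
    rw [hzA, LinearMap.add_apply, LinearMap.sub_apply, Module.End.one_apply, QuadraticMap.map_add Q,
      sub_eq_add_neg, QuadraticMap.map_add Q, QuadraticMap.map_neg, polar_neg_right]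
    have := hskew y y
    rw [polar_comm] at this
    have h0 : polar Q y (L y) = 0 := by
      refine (mul_eq_zero.1 (show (2 : F) * polar Q y (L y) = 0 from ?_)).resolve_left h2
      linear_combination this
    rw [h0]; ring
  have hfac : (z : Module.End F V) - 1 = (2 : F) • (L * (A⁻¹ : (Module.End F V)ˣ).1) := by
    have h1 : (1 - L) * (A⁻¹ : (Module.End F V)ˣ).1 = 1 := by rw [← hA, Units.mul_inv]
    rw [hz]
    conv_lhs => arg 2; rw [← h1]
    rw [← sub_mul, ← smul_mul_assoc]
    congr 1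
    rw [two_smul]; abel
  have hcomm : Commute L (A⁻¹ : (Module.End F V)ˣ).1 := by
    refine Commute.units_inv_right ?_
    rw [hA]
    exact (Commute.one_right L).sub_right (Commute.refl L)
  have hpow : ∀ t, ((z : Module.End F V) - 1) ^ t = (2 : F) ^ t • (L ^ t * (A⁻¹ : (Module.End F V)ˣ).1 ^ t) := by
    intro t
    rw [hfac, _root_.smul_pow, hcomm.mul_pow]
  refine ⟨z, hiso, by rw [hpow, hnil, zero_mul, smul_zero], ?_, ?_, ?_⟩
  · refine ⟨v 0, hvW 0 (Nat.zero_le _), ?_⟩
    rw [hpow, LinearMap.smul_apply, smul_ne_zero_iff, (hcomm.pow_pow (2 * k) (2 * k)).eq, Module.End.mul_apply]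
    refine ⟨pow_ne_zero _ h2, fun h0 => ?_⟩
    rw [hLpow _ _ (Nat.zero_le _), if_pos (by omega), zero_add] at h0
    have hinj : Function.Injective (((A⁻¹ : (Module.End F V)ˣ).1 : Module.End F V) ^ (2 * k)) := by
      rw [← Units.val_pow_eq_pow_val]
      exact ((Module.End.isUnit_iff _).1 (Units.isUnit _)).1
    have hv2 : v (2 * k) = 0 := hinj (h0.trans (map_zero _).symm)
    have := hgram (2 * k) 0 le_rfl (Nat.zero_le _)
    rw [hv2, polar_zero_left, if_pos (by omega)] at this
    exact mul_ne_zero (pow_ne_zero _ (by simp)) hc0 this.symm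
  · intro x hx
    have hx0 : L x = 0 := by
      rw [hL]
      refine Finset.sum_eq_zero fun i hi => ?_
      rw [hx _ (hvW _ (by omega)), mul_zero, zero_smul]
    have : z ((1 - L) x) = (1 + L) x := hzA x
    simpa [hx0] using this
  · intro t ht htW
    have hfix : ∀ x, t (L x) = L x ∧ L (t x) = L x := fun x => by
      refine ⟨?_, ?_⟩
      · rw [hL, map_sum]
        refine Finset.sum_congr rfl fun i hi => ?_
        rw [Finset.mem_range] at hi
        rw [map_smul, htW _ (hvW _ (by omega))]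
      · rw [hL, hL]
        refine Finset.sum_congr rfl fun i hi => ?_
        rw [Finset.mem_range] at hi
        conv_lhs => rw [← htW _ (hvW (2 * k - i) (by omega)), polar_iso ht]
    refine LinearEquiv.ext fun x => ?_
    obtain ⟨y, rfl⟩ := hsurj x
    rw [LinearEquiv.mul_apply, LinearEquiv.mul_apply, hzA,
      show t ((1 - L) y) = (1 - L) (t y) by simp [(hfix y).1, (hfix y).2], hzA]
    simp [(hfix y).1, (hfix y).2]

end Cfsg.Agent.Lie.OrthNine
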